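import Groth.Agent.Lib.Koszul.Basic
import Groth.Prelude.Def_DRing2
import Mathlib.CategoryTheory.Monoidal.Linear
import Mathlib.Algebra.Homology.HomotopyCategory.MappingCone

/-!
# Koszul complexes tensored with a module; permutation invariance
-/

universe u

open CategoryTheory CategoryTheory.Limits CochainComplex MonoidalCategory

namespace Groth.Agent.Lib.Koszul.Tensor

open Groth.Agent.Lib.Koszul.SmulCone Groth.Agent.Lib.Koszul.Basic

variable {A : Type u} [CommRing A]

theorem mapCx_smul (F : ModuleCat.{u} A ⥤ ModuleCat.{u} A) [F.Additive] [F.Linear A]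
    (C : CochainComplex (ModuleCat.{u} A) ℤ) (x : A) :
    (F.mapHomologicalComplex (ComplexShape.up ℤ)).map (x • 𝟙 C) =
      x • 𝟙 ((F.mapHomologicalComplex _).obj C) := by
  ext i
  simp [Functor.map_smul]

/-- A linear functor commutes with Koszul complexes. -/
noncomputable def mapKoszulOnIso (F : ModuleCat.{u} A ⥤ ModuleCat.{u} A) [F.Additive] [F.Linear A]
    (C : CochainComplex (ModuleCat.{u} A) ℤ) :
    ∀ l : List A, (F.mapHomologicalComplex (ComplexShape.up ℤ)).obj (koszulOn C l) ≅
      koszulOn ((F.mapHomologicalComplex _).obj C) l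
  | [] => Iso.refl _
  | f :: l =>
    mappingCone.mapHomologicalComplexIso (f • 𝟙 (koszulOn C l)) F ≪≫
      eqToIso (congrArg (fun g => mappingCone g) (mapCx_smul F (koszulOn C l) f)) ≪≫
        smulConeIso f (mapKoszulOnIso F C l)

/-- `K(l) ⊗ M` is the Koszul complex of `M`. -/
noncomputable def tensorCxIso (l : List A) (M : ModuleCat.{u} A) :
    DRing.tensorCx (Koszul.koszul A l) M ≅ koszulOn (sgl M) l :=
  ((tensorRight M).mapHomologicalComplex _).mapIso (eqToIso (koszul_eq l)) ≪≫
    mapKoszulOnIso (tensorRight M) _ l ≪≫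
      go l ((HomologicalComplex.singleMapHomologicalComplex (tensorRight M) _ 0).app _ ≪≫
        (HomologicalComplex.single _ _ 0).mapIso (λ_ M))
where
  go : ∀ (l : List A) {C C' : CochainComplex (ModuleCat.{u} A) ℤ}, (C ≅ C') →
      (koszulOn C l ≅ koszulOn C' l)
  | [], _, _, e => e
  | f :: l, _, _, e => smulConeIso f (go l e)

/-- Homology of `K(l) ⊗ M`. -/
noncomputable def tensorHomologyIso (l : List A) (M : ModuleCat.{u} A) (i : ℤ) :
    (DRing.tensorCx (Koszul.koszul A l) M).homology i ≅ (koszulOn (sgl M) l).homology i :=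
  (HomologicalComplex.homologyFunctor _ _ i).mapIso (tensorCxIso l M)

theorem nonempty_iso_of_perm (C : CochainComplex (ModuleCat.{u} A) ℤ) {l l' : List A}
    (h : l.Perm l') : Nonempty (koszulOn C l ≅ koszulOn C l') := by
  induction h with
  | nil => exact ⟨Iso.refl _⟩
  | cons f _ ih => exact ⟨smulConeIso f ih.some⟩
  | swap f g l => exact ⟨Null.swap (koszulOn C l) f g⟩
  | trans _ _ ih ih' => exact ⟨ih.some ≪≫ ih'.some⟩

end Groth.Agent.Lib.Koszul.Tensor
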