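import Groth.Agent.Lib.FlatCx.Elem
import Mathlib.Algebra.Homology.HomotopyCategory.Pretriangulated
import Mathlib.Algebra.Homology.Linear
import Mathlib.Algebra.Category.ModuleCat.Abelian

/-!
# Element-level API for mapping cones of complexes of modules
-/

universe u v

open CategoryTheory CategoryTheory.Limits CochainComplex CochainComplex.HomComplex

namespace Groth.Agent.Lib.Koszul.Cone

open Groth.Agent.Lib.FlatCx

variable {A : Type u} [CommRing A]

theorem prev_up (i : ℤ) : (ComplexShape.up ℤ).prev i = i - 1 :=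
  (ComplexShape.up ℤ).prev_eq' (by simp)

theorem next_up (i : ℤ) : (ComplexShape.up ℤ).next i = i + 1 :=
  (ComplexShape.up ℤ).next_eq' (by simp)

variable {K L : CochainComplex (ModuleCat.{v} A) ℤ}

/-- `d ∘ d = 0` on elements. -/
theorem d_d (i j k : ℤ) (x : K.X i) : K.d j k (K.d i j x) = 0 :=
  (ConcreteCategory.comp_apply _ _ _).symm.trans (by rw [K.d_comp_d]; rfl)

/-- chain maps commute with differentials, on elements -/
theorem f_d (φ : K ⟶ L) (i j : ℤ) (x : K.X i) : L.d i j (φ.f i x) = φ.f j (K.d i j x) := by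
  rw [← ConcreteCategory.comp_apply, φ.comm, ConcreteCategory.comp_apply]

theorem map_smul_id (x : A) (j : ℤ) (a : K.X j) : (x • 𝟙 K : K ⟶ K).f j a = x • a := rfl

variable (φ : K ⟶ L)

/-- first coordinate -/
noncomputable def cfst (i j : ℤ) (h : i + 1 = j) : (mappingCone φ).X i →ₗ[A] K.X j :=
  ((mappingCone.fst φ).1.v i j h).hom

/-- second coordinate -/
noncomputable def csnd (i : ℤ) : (mappingCone φ).X i →ₗ[A] L.X i :=
  ((mappingCone.snd φ).v i i (add_zero i)).hom

/-- the element with given coordinates -/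
noncomputable def cmk (i j : ℤ) (h : i + 1 = j) : (K.X j × L.X i) →ₗ[A] (mappingCone φ).X i :=
  LinearMap.coprod ((mappingCone.inl φ).v j i (by omega)).hom ((mappingCone.inr φ).f i).hom

theorem cfst_cmk (i j : ℤ) (h : i + 1 = j) (x : K.X j × L.X i) :
    cfst φ i j h (cmk φ i j h x) = x.1 := by
  simp only [cfst, cmk, LinearMap.coprod_apply, map_add]
  rw [← ConcreteCategory.comp_apply, ← ConcreteCategory.comp_apply, mappingCone.inl_v_fst_v,
    mappingCone.inr_f_fst_v]
  simp

theorem csnd_cmk (i j : ℤ) (h : i + 1 = j) (x : K.X j × L.X i) :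
    csnd φ i (cmk φ i j h x) = x.2 := by
  simp only [csnd, cmk, LinearMap.coprod_apply, map_add]
  rw [← ConcreteCategory.comp_apply, ← ConcreteCategory.comp_apply, mappingCone.inl_v_snd_v,
    mappingCone.inr_f_snd_v]
  simp

theorem cmk_coords (i j : ℤ) (h : i + 1 = j) (z : (mappingCone φ).X i) :
    cmk φ i j h (cfst φ i j h z, csnd φ i z) = z :=
  (congrArg (fun f => f.hom z) (mappingCone.id_X φ i j h) :)

theorem ext {i j : ℤ} (h : i + 1 = j) {z z' : (mappingCone φ).X i}
    (h₁ : cfst φ i j h z = cfst φ i j h z') (h₂ : csnd φ i z = csnd φ i z') : z = z' := by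
  rw [← cmk_coords φ i j h z, ← cmk_coords φ i j h z', h₁, h₂]

theorem cfst_d (i j k : ℤ) (hij : i + 1 = j) (hjk : j + 1 = k) (z : (mappingCone φ).X i) :
    cfst φ j k hjk ((mappingCone φ).d i j z) = -K.d j k (cfst φ i j hij z) :=
  congrArg (fun f => f.hom z) (mappingCone.d_fst_v φ i j k hij hjk)

theorem csnd_d (i j : ℤ) (hij : i + 1 = j) (z : (mappingCone φ).X i) :
    csnd φ j ((mappingCone φ).d i j z) = φ.f j (cfst φ i j hij z) + L.d i j (csnd φ i z) :=
  congrArg (fun f => f.hom z) (mappingCone.d_snd_v φ i j hij)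

theorem d_cmk (i j k : ℤ) (hij : i + 1 = j) (hjk : j + 1 = k) (a : K.X j) (b : L.X i) :
    (mappingCone φ).d i j (cmk φ i j hij (a, b)) =
      cmk φ j k hjk (-K.d j k a, φ.f j a + L.d i j b) := by
  refine ext φ hjk ?_ ?_
  · rw [cfst_d φ i j k hij hjk, cfst_cmk, cfst_cmk]
  · rw [csnd_d φ i j hij, cfst_cmk, csnd_cmk, csnd_cmk]

theorem inr_apply (i j : ℤ) (h : i + 1 = j) (b : L.X i) :
    (mappingCone.inr φ).f i b = cmk φ i j h (0, b) := by
  simp [cmk]

theorem cmk_surjective (i j : ℤ) (h : i + 1 = j) : Function.Surjective (cmk φ i j h) :=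
  fun z => ⟨_, cmk_coords φ i j h z⟩

/-- cycles of the cone -/
theorem d_eq_zero_iff (i j : ℤ) (h : i + 1 = j) (a : K.X j) (b : L.X i) :
    (mappingCone φ).d i j (cmk φ i j h (a, b)) = 0 ↔
      K.d j (j + 1) a = 0 ∧ φ.f j a + L.d i j b = 0 := by
  rw [d_cmk φ i j (j + 1) h rfl]
  constructor
  · intro hz
    have h1 := congrArg (cfst φ j (j + 1) rfl) hz
    have h2 := congrArg (csnd φ j) hz
    rw [cfst_cmk, map_zero, neg_eq_zero] at h1
    rw [csnd_cmk, map_zero] at h2
    exact ⟨h1, h2⟩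
  · rintro ⟨h1, h2⟩
    rw [h1, h2, neg_zero]
    exact map_zero _

variable {K' L' : CochainComplex (ModuleCat.{v} A) ℤ} (φ' : K' ⟶ L') (a : K ⟶ K') (b : L ⟶ L')
  (comm : φ ≫ b = a ≫ φ')

theorem map_cmk (i j : ℤ) (h : i + 1 = j) (x : K.X j) (y : L.X i) :
    (mappingCone.map φ φ' a b comm).f i (cmk φ i j h (x, y)) =
      cmk φ' i j h (a.f j x, b.f i y) := by
  simp only [cmk, LinearMap.coprod_apply, map_add, mappingCone.map]
  rw [← ConcreteCategory.comp_apply, ← ConcreteCategory.comp_apply,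
    mappingCone.inl_v_desc_f, mappingCone.inr_f_desc_f]
  simp

end Groth.Agent.Lib.Koszul.Cone
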