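import Groth.Agent.Lib.Koszul.Euler
import Mathlib.RingTheory.Ideal.AssociatedPrime.Finiteness
import Mathlib.RingTheory.KrullDimension.Regular
import Mathlib.RingTheory.Localization.FractionRing
import Mathlib.RingTheory.Flat.Localization
import Mathlib.LinearAlgebra.Dimension.Constructions

/-!
# Vanishing and positivity of the Koszul Euler characteristic
-/

universe u

open CategoryTheory CategoryTheory.Limits CochainComplex
open scoped Pointwise TensorProduct

namespace Groth.Agent.Lib.Koszul.Serre

open Groth.Agent.Lib.Koszul.SmulCone Groth.Agent.Lib.Koszul.Basic Groth.Agent.Lib.Koszul.Chi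
open Groth.Agent.Lib.Koszul.Euler

variable {A : Type u} [CommRing A]

theorem supportDim_exact {N₁ N₂ N₃ : Type u} [AddCommGroup N₁] [Module A N₁]
    [AddCommGroup N₂] [Module A N₂] [AddCommGroup N₃] [Module A N₃] (f : N₁ →ₗ[A] N₂)
    (g : N₂ →ₗ[A] N₃) (hf : Function.Injective f) (hg : Function.Surjective g)
    (hfg : Function.Exact f g) :
    Module.supportDim A N₂ = max (Module.supportDim A N₁) (Module.supportDim A N₃) := by
  refine le_antisymm (iSup_le fun s => ?_)
    (max_le (Module.supportDim_le_of_injective f hf) (Module.supportDim_le_of_surjective g hg))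
  have hmem : ∀ j, s.head.1 ≤ (s j).1 := fun j => s.monotone (Fin.zero_le j)
  have h0 : s.head.1 ∈ Module.support A N₁ ∪ Module.support A N₃ := by
    rw [← Module.support_of_exact hfg hf hg]; exact s.head.2
  rcases h0 with h0 | h0
  · exact le_max_of_le_left (Order.LTSeries.length_le_krullDim (α := Module.support A N₁)
      ⟨s.length, fun j => ⟨(s j).1, Module.mem_support_mono (hmem j) h0⟩, fun j => s.step j⟩)
  · exact le_max_of_le_right (Order.LTSeries.length_le_krullDim (α := Module.support A N₃)
      ⟨s.length, fun j => ⟨(s j).1, Module.mem_support_mono (hmem j) h0⟩, fun j => s.step j⟩)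

theorem lt_of_succ_lt {b : WithBot ℕ∞} {n : ℕ} (h : b + 1 < ((n + 1 : ℕ) : WithBot ℕ∞)) :
    b < (n : WithBot ℕ∞) := by
  induction b using WithBot.recBotCoe with
  | bot => exact WithBot.bot_lt_coe _
  | coe b =>
    induction b using ENat.recTopCoe with
    | top =>
      rw [show ((⊤ : ℕ∞) : WithBot ℕ∞) + 1 = ((⊤ : ℕ∞) : WithBot ℕ∞) from rfl] at h
      exact absurd (WithBot.coe_lt_coe.1 h) (not_lt.2 le_top)
    | coe b => norm_cast at h ⊢; omega

theorem eq_of_succ_eq {b : WithBot ℕ∞} {n : ℕ} (h : b + 1 = ((n + 1 : ℕ) : WithBot ℕ∞)) :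
    b = (n : WithBot ℕ∞) := by
  induction b using WithBot.recBotCoe with
  | bot =>
    rw [WithBot.bot_add] at h
    exact absurd h (WithBot.bot_lt_coe _).ne
  | coe b =>
    induction b using ENat.recTopCoe with
    | top =>
      rw [show ((⊤ : ℕ∞) : WithBot ℕ∞) + 1 = ((⊤ : ℕ∞) : WithBot ℕ∞) from rfl] at h
      exact absurd (WithBot.coe_inj.1 h) (ENat.natCast_ne_top _).symm
    | coe b => norm_cast at h ⊢; omega

variable [IsNoetherianRing A] [IsLocalRing A]

/-- The two statements proved together. -/
def Dichotomy (l : List A) (N : Type u) [AddCommGroup N] [Module A N] : Prop :=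
  IsFiniteLength A (N ⧸ (span' l • ⊤ : Submodule A N)) →
    (Module.supportDim A N < (l.length : WithBot ℕ∞) →
      chi (koszulOn (sgl (ModuleCat.of A N)) l) = 0) ∧
    (Module.supportDim A N = (l.length : WithBot ℕ∞) →
      0 < chi (koszulOn (sgl (ModuleCat.of A N)) l))

omit [IsNoetherianRing A] [IsLocalRing A] in
theorem dichotomy_nil (N : Type u) [AddCommGroup N] [Module A N] : Dichotomy ([] : List A) N := by
  intro hfl
  rw [chi_nil]
  constructor
  · intro h
    have : Subsingleton N := by
      rw [← Module.supportDim_eq_bot_iff_subsingleton A]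
      induction hb : Module.supportDim A N using WithBot.recBotCoe with
      | bot => rfl
      | coe b => rw [hb] at h; simp at h
    exact len_subsingleton N
  · intro h
    have : Nontrivial N := by
      rw [← Module.supportDim_ne_bot_iff_nontrivial A, h]
      simp
    have hfl' : IsFiniteLength A N := by
      have e : N ≃ₗ[A] N ⧸ (span' ([] : List A) • ⊤ : Submodule A N) :=
        (Submodule.quotEquivOfEqBot _ (by simp [span'])).symm
      exact LinearEquiv.isFiniteLength e.symm hfl
    have h1 : Module.length A N ≠ ⊤ := Module.length_ne_top_iff.2 hfl'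
    have h2 : 0 < Module.length A N := Module.length_pos
    obtain ⟨k, hk⟩ := ENat.ne_top_iff_exists.1 h1
    rw [← hk] at h2
    simp only [len, ← hk, ENat.toNat_natCast]
    exact_mod_cast h2

theorem dichotomy : ∀ (n : ℕ) (l : List A), l.length = n → (∀ a ∈ l, a ∈ IsLocalRing.maximalIdeal A) →
    ∀ (N : Type u) [AddCommGroup N] [Module A N], Module.Finite A N → Dichotomy l N := by
  intro n
  induction n with
  | zero =>
    intro l hl _ N _ _ _
    rw [List.length_eq_zero_iff] at hl
    subst hl
    exact dichotomy_nil N
  | succ n ih =>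
    intro l hlen hm N _ _ hN
    induction hN using IsNoetherianRing.induction_on_isQuotientEquivQuotientPrime A with
    | subsingleton N =>
      intro hfl
      have hd : Module.supportDim A N = ⊥ := Module.supportDim_eq_bot_of_subsingleton A N
      refine ⟨fun _ => finsum_eq_zero_of_forall_eq_zero fun i => ?_, fun h => ?_⟩
      · have hz : IsZero ((koszulOn (sgl (ModuleCat.of A N)) l).homology i) := by
          rw [ModuleCat.isZero_iff_subsingleton]
          have h1 : (1 : A) ∈ Module.annihilator A N :=
            Module.mem_annihilator.2 fun m => Subsingleton.elim _ _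
          obtain ⟨H⟩ := annihilator_le_nullIdeal (ModuleCat.of A N) l h1
          exact ⟨fun a b => by
            rw [← one_smul A a, ← one_smul A b, Null.smul_homology_eq_zero H i a,
              Null.smul_homology_eq_zero H i b]⟩
        have := ModuleCat.isZero_iff_subsingleton.1 hz
        exact mul_eq_zero_of_right _ (len_subsingleton _)
      · rw [hd] at h; simp at h
    | exact N₁ N₂ N₃ f g hf hg hfg h₁ h₃ =>
      intro hfl
      obtain ⟨a1, b1⟩ := h₁ (isFiniteLength_quot_mono hfl (Module.support_subset_of_injective f hf))
      obtain ⟨a3, b3⟩ := h₃ (isFiniteLength_quot_mono hfl (Module.support_subset_of_surjective g hg))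
      rw [chi_add f g hf hg hfg l hfl, supportDim_exact f g hf hg hfg]
      refine ⟨fun h => by rw [a1 (max_lt_iff.1 h).1, a3 (max_lt_iff.1 h).2, add_zero], fun h => ?_⟩
      have l1 := (le_max_left _ _).trans_eq h
      have l3 := (le_max_right _ _).trans_eq h
      rcases l1.lt_or_eq with c1 | c1 <;> rcases l3.lt_or_eq with c3 | c3
      · exact absurd h (max_lt c1 c3).ne
      · linarith [a1 c1, b3 c3]
      · linarith [b1 c1, a3 c3]
      · linarith [b1 c1, b3 c3]
    | quotient N p φ =>
      intro hfl
      have hnt : Nontrivial N :=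
        have := Ideal.Quotient.nontrivial_iff.2 p.2.ne_top
        φ.toEquiv.nontrivial
      by_cases hall : ∀ a ∈ l, a ∈ p.asIdeal
      · have hkill : ∀ a ∈ p.asIdeal, a ∈ Module.annihilator A N := fun a ha =>
          Module.mem_annihilator.2 fun m => φ.injective (by
            rw [map_smul, map_zero]
            obtain ⟨b, hb⟩ := Ideal.Quotient.mk_surjective (φ m)
            rw [← hb, Algebra.smul_def, Ideal.Quotient.algebraMap_eq, Ideal.Quotient.eq_zero_iff_mem.2 ha,
              zero_mul])
        obtain ⟨a, r, rfl⟩ := List.exists_cons_of_length_eq_add_one hlen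
        refine ⟨fun _ => chi_cons_eq_zero_of_annihilator (ModuleCat.of A N)
          (hkill a (hall a (by simp))) r (fin_koszulOn (ModuleCat.of A N) _ hfl), fun hd => ?_⟩
        have hbot : (span' (a :: r) • ⊤ : Submodule A N) = ⊥ := by
          rw [eq_bot_iff, Submodule.smul_le]
          intro b hb m _
          exact (Submodule.mem_bot A).2 (Module.mem_annihilator.1
            ((Ideal.span_le.2 fun c hc => hkill c (hall c hc) :
              span' (a :: r) ≤ Module.annihilator A N) hb) m)
        have hN : IsFiniteLength A N :=
          LinearEquiv.isFiniteLength (Submodule.quotEquivOfEqBot _ hbot) hfl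
        have := supportDim_le_zero_of_isFiniteLength hN
        rw [hd, hlen] at this
        exact absurd this (by simp)
      · push Not at hall
        obtain ⟨a, hal, hap⟩ := hall
        classical
        obtain ⟨r, hr⟩ : ∃ r, l.Perm (a :: r) := ⟨_, List.perm_cons_erase hal⟩
        have hreg : IsSMulRegular N a := fun x y hxy => φ.injective (by
          have e := congrArg φ hxy
          simp only [map_smul] at e
          obtain ⟨b, hb⟩ := Ideal.Quotient.mk_surjective (φ x)
          obtain ⟨c, hc⟩ := Ideal.Quotient.mk_surjective (φ y)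
          rw [← hb, ← hc, Ideal.Quotient.eq]
          rw [← hb, ← hc] at e
          refine (p.2.mem_or_mem (show a * (b - c) ∈ p.asIdeal from ?_)).resolve_left hap
          rw [mul_sub, ← Ideal.Quotient.eq]
          exact e)
        have hrlen : r.length = n := by
          have := hr.length_eq
          rw [hlen, List.length_cons] at this
          omega
        have hmr : ∀ b ∈ r, b ∈ IsLocalRing.maximalIdeal A := fun b hb =>
          hm b (hr.mem_iff.2 (List.mem_cons_of_mem _ hb))
        have hfl' : IsFiniteLength A
            (QuotSMulTop a N ⧸ (span' r • ⊤ : Submodule A (QuotSMulTop a N))) := by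
          refine isFiniteLength_quot hfl fun q hq hJ => ?_
          rw [Module.support_quotSMulTop] at hq
          refine ⟨hq.1, Ideal.span_le.2 fun b hb => ?_⟩
          rcases List.mem_cons.1 (hr.mem_iff.1 hb) with rfl | hb'
          · exact hq.2 (Set.mem_singleton _)
          · exact hJ (Ideal.subset_span hb')
        obtain ⟨i0, ipos⟩ := ih r hrlen hmr (QuotSMulTop a N) inferInstance hfl'
        rw [chi_perm (ModuleCat.of A N) hr, chi_cons_regular (ModuleCat.of A N) hreg, hlen,
          ← Module.supportDim_quotSMulTop_succ_eq_supportDim hreg (hm a hal)]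
        rw [hrlen] at i0 ipos
        exact ⟨fun h => i0 (lt_of_succ_lt h), fun h => ipos (eq_of_succ_eq h)⟩

omit [IsNoetherianRing A] [IsLocalRing A] in
theorem finrank_tensor_exact [IsDomain A] {N₁ N₂ N₃ : Type u} [AddCommGroup N₁] [Module A N₁]
    [AddCommGroup N₂] [Module A N₂] [Module.Finite A N₂] [AddCommGroup N₃] [Module A N₃]
    (f : N₁ →ₗ[A] N₂) (g : N₂ →ₗ[A] N₃) (hf : Function.Injective f) (hg : Function.Surjective g)
    (hfg : Function.Exact f g) :
    Module.finrank (FractionRing A) (FractionRing A ⊗[A] N₂) =
      Module.finrank (FractionRing A) (FractionRing A ⊗[A] N₁) +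
        Module.finrank (FractionRing A) (FractionRing A ⊗[A] N₃) := by
  let F := f.baseChange (FractionRing A)
  let G := g.baseChange (FractionRing A)
  have hF : Function.Injective F := Module.Flat.lTensor_preserves_injective_linearMap f hf
  have hG : Function.Surjective G := LinearMap.lTensor_surjective _ hg
  have hFG : LinearMap.range F = LinearMap.ker G := SetLike.coe_injective (Set.ext fun z =>
    (lTensor_exact (FractionRing A) hfg hg z).symm)
  rw [← LinearMap.finrank_range_add_finrank_ker G, LinearMap.range_eq_top.2 hG, finrank_top, ← hFG,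
    LinearMap.finrank_range_of_inj hF, add_comm]

theorem chi_eq_rank_mul [IsDomain A] (l : List A) (hm : ∀ a ∈ l, a ∈ IsLocalRing.maximalIdeal A)
    (hd : ringKrullDim A = l.length) (hfl : IsFiniteLength A (A ⧸ span' l))
    (N : Type u) [AddCommGroup N] [Module A N] (hN : Module.Finite A N) :
    chi (koszulOn (sgl (ModuleCat.of A N)) l) =
      (Module.finrank (FractionRing A) (FractionRing A ⊗[A] N) : ℤ) *
        chi (koszulOn (sgl (ModuleCat.of A A)) l) := by
  have hA : IsFiniteLength A (A ⧸ (span' l • ⊤ : Submodule A A)) :=
    LinearEquiv.isFiniteLength (Submodule.quotEquivOfEq _ _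
      (show span' l = (span' l • ⊤ : Submodule A A) from (Ideal.mul_top _).symm)) hfl
  have hflN : ∀ (M : Type u) [AddCommGroup M] [Module A M] [Module.Finite A M],
      IsFiniteLength A (M ⧸ (span' l • ⊤ : Submodule A M)) := fun M _ _ _ =>
    isFiniteLength_quot_mono hA fun q _ => by
      rw [Module.support_eq_zeroLocus]
      intro a ha
      have : a • (1 : A) = 0 := Module.mem_annihilator.1 ha 1
      rw [smul_eq_mul, mul_one] at this
      rw [this]; exact zero_mem _
  induction hN using IsNoetherianRing.induction_on_isQuotientEquivQuotientPrime A with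
  | subsingleton N =>
    have : Subsingleton (FractionRing A ⊗[A] N) := inferInstance
    rw [Module.finrank_zero_of_subsingleton, Nat.cast_zero, zero_mul]
    exact (dichotomy l.length l rfl hm N inferInstance (hflN N)).1 (by
      rw [Module.supportDim_eq_bot_of_subsingleton]; simp)
  | exact N₁ N₂ N₃ f g hf hg hfg h₁ h₃ =>
    rw [chi_add f g hf hg hfg l (hflN N₂), h₁, h₃, finrank_tensor_exact f g hf hg hfg]
    push_cast; ring
  | quotient N p φ =>
    have hNfl := hflN N
    by_cases hp : p.asIdeal = ⊥
    · let e : N ≃ₗ[A] A := φ.trans (Submodule.quotEquivOfEqBot _ hp)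
      rw [LinearEquiv.finrank_eq (e.baseChange A (FractionRing A)),
        LinearEquiv.finrank_eq (TensorProduct.AlgebraTensorModule.rid A (FractionRing A) (FractionRing A)),
        Module.finrank_self, Nat.cast_one, one_mul]
      exact chi_congr fun i => (HomologicalComplex.homologyFunctor _ _ i).mapIso
        (Tensor.tensorCxIso.go l ((HomologicalComplex.single _ _ 0).mapIso e.toModuleIso))
    · obtain ⟨a, ha, ha0⟩ := Submodule.exists_mem_ne_zero_of_ne_bot hp
      have hkill : ∀ m : N, a • m = 0 := fun m => φ.injective (by
        rw [map_smul, map_zero]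
        obtain ⟨b, hb⟩ := Ideal.Quotient.mk_surjective (φ m)
        rw [← hb, Algebra.smul_def, Ideal.Quotient.algebraMap_eq, Ideal.Quotient.eq_zero_iff_mem.2 ha,
          zero_mul])
      have hsub : Subsingleton (FractionRing A ⊗[A] N) := by
        refine ⟨fun z w => ?_⟩
        have key : ∀ z : FractionRing A ⊗[A] N, z = 0 := by
          intro z
          induction z using TensorProduct.induction_on with
          | zero => rfl
          | tmul c m =>
            have hu : algebraMap A (FractionRing A) a ≠ 0 := fun h0 =>
              ha0 (IsFractionRing.injective A (FractionRing A) (h0.trans (map_zero _).symm))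
            rw [show c = a • ((algebraMap A (FractionRing A) a)⁻¹ * c) by
              rw [Algebra.smul_def, ← mul_assoc, mul_inv_cancel₀ hu, one_mul],
              TensorProduct.smul_tmul, hkill, TensorProduct.tmul_zero]
          | add x y hx hy => rw [hx, hy, add_zero]
        rw [key z, key w]
      rw [Module.finrank_zero_of_subsingleton, Nat.cast_zero, zero_mul]
      refine (dichotomy l.length l rfl hm N inferInstance hNfl).1 (lt_of_lt_of_eq ?_ hd)
      rw [Module.supportDim_eq_of_equiv φ, ← Module.supportDim_self_eq_ringKrullDim]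
      have hreg : IsSMulRegular A a := fun x y h => mul_left_cancel₀ ha0 h
      have ham : a ∈ IsLocalRing.maximalIdeal A := IsLocalRing.le_maximalIdeal p.2.ne_top ha
      have hle : Module.supportDim A (A ⧸ p.asIdeal) ≤ Module.supportDim A (QuotSMulTop a A) :=
        Module.supportDim_le_of_surjective
          (Submodule.mapQ (a • ⊤ : Submodule A A) p.asIdeal LinearMap.id fun b hb => by
            obtain ⟨c, -, rfl⟩ := (Submodule.mem_smul_pointwise_iff_exists _ _ _).1 hb
            exact Ideal.mul_mem_right c _ ha)
          (fun z => by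
            obtain ⟨b, rfl⟩ := Submodule.Quotient.mk_surjective _ z
            exact ⟨Submodule.Quotient.mk b, rfl⟩)
      refine hle.trans_lt ?_
      rw [← Module.supportDim_quotSMulTop_succ_eq_supportDim hreg ham]
      have hne : Module.supportDim A (QuotSMulTop a A) + 1 = (l.length : WithBot ℕ∞) := by
        rw [Module.supportDim_quotSMulTop_succ_eq_supportDim hreg ham,
          Module.supportDim_self_eq_ringKrullDim, hd]
      rw [hne]
      induction hb : Module.supportDim A (QuotSMulTop a A) using WithBot.recBotCoe with
      | bot => exact WithBot.bot_lt_coe _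
      | coe b =>
        rw [hb] at hne
        induction b using ENat.recTopCoe with
        | top =>
          rw [show ((⊤ : ℕ∞) : WithBot ℕ∞) + 1 = ((⊤ : ℕ∞) : WithBot ℕ∞) from rfl] at hne
          exact absurd (WithBot.coe_inj.1 hne) (ENat.natCast_ne_top _).symm
        | coe b => norm_cast at hne ⊢; omega

end Groth.Agent.Lib.Koszul.Serre

namespace Groth.Agent.Lib.Koszul.Serre

open Groth.Agent.Lib.Koszul.Basic Groth.Agent.Lib.Koszul.Chi

variable {A : Type u} [CommRing A]

/-- The Euler characteristic of `K(l) ⊗ M`. -/
theorem chi_tensorCx (l : List A) (M : ModuleCat.{u} A) :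
    chi (DRing.tensorCx (_root_.Koszul.koszul A l) M) = chi (koszulOn (sgl M) l) :=
  chi_congr fun i => Tensor.tensorHomologyIso l M i

end Groth.Agent.Lib.Koszul.Serre
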