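import Groth.Agent.Lib.Koszul.Homotopy
import Groth.Prelude.Def_ega3
import Groth.Prelude.Def_Koszul
import Mathlib.RingTheory.Regular.RegularSequence
import Mathlib.Algebra.Homology.SingleHomology

/-!
# Koszul complexes as iterated cones

`koszulOn C l` is the iterated cone on a complex `C`; `CohIII.koszulCx M l` and `Koszul.koszul A l`
are instances of it.
-/

universe u

open CategoryTheory CategoryTheory.Limits CochainComplex
open scoped Pointwise

namespace Groth.Agent.Lib.Koszul.Basic

open Groth.Agent.Lib.FlatCx Groth.Agent.Lib.Koszul.Cone Groth.Agent.Lib.Koszul.SmulCone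
open Groth.Agent.Lib.Koszul.Null

variable {A : Type u} [CommRing A]

/-- The iterated cone. -/
noncomputable def koszulOn (C : CochainComplex (ModuleCat.{u} A) ℤ) :
    List A → CochainComplex (ModuleCat.{u} A) ℤ
  | [] => C
  | f :: fs => smulCone f (koszulOn C fs)

/-- A module in degree zero. -/
noncomputable abbrev sgl (M : ModuleCat.{u} A) : CochainComplex (ModuleCat.{u} A) ℤ :=
  (HomologicalComplex.single (ModuleCat.{u} A) (ComplexShape.up ℤ) 0).obj M

theorem koszulCx_eq (M : ModuleCat.{u} A) :
    ∀ l : List A, CohIII.koszulCx M l = koszulOn (sgl M) l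
  | [] => rfl
  | f :: l => congrArg (fun C => smulCone f C) (koszulCx_eq M l)

theorem koszul_eq : ∀ l : List A, Koszul.koszul A l = koszulOn (sgl (ModuleCat.of A A)) l
  | [] => rfl
  | f :: l => congrArg (fun C => smulCone f C) (koszul_eq l)

/-- Homology of `CohIII.koszulCx`. -/
noncomputable def cxHomologyIso (M : ModuleCat.{u} A) (l : List A) (i : ℤ) :
    (CohIII.koszulCx M l).homology i ≅ (koszulOn (sgl M) l).homology i :=
  (HomologicalComplex.homologyFunctor _ _ i).mapIso (eqToIso (koszulCx_eq M l))

/-- Homology of `Koszul.koszul`. -/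
noncomputable def koszulHomologyIso (l : List A) (i : ℤ) :
    (Koszul.koszul A l).homology i ≅ (koszulOn (sgl (ModuleCat.of A A)) l).homology i :=
  (HomologicalComplex.homologyFunctor _ _ i).mapIso (eqToIso (koszul_eq l))

/-- Functoriality in the complex. -/
noncomputable def koszulOnMap {C C' : CochainComplex (ModuleCat.{u} A) ℤ} (g : C ⟶ C') :
    ∀ l : List A, koszulOn C l ⟶ koszulOn C' l
  | [] => g
  | f :: l => smulConeMap f (koszulOnMap g l)

theorem quasiIso_koszulOnMap {C C' : CochainComplex (ModuleCat.{u} A) ℤ} (g : C ⟶ C') [QuasiIso g] :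
    ∀ l : List A, QuasiIso (koszulOnMap g l)
  | [] => ‹QuasiIso g›
  | f :: l => have := quasiIso_koszulOnMap g l; quasiIso_smulConeMap f _

/-- A quasi-isomorphism induces isomorphisms of Koszul homology. -/
noncomputable def homologyIsoOfQuasiIso {C C' : CochainComplex (ModuleCat.{u} A) ℤ} (g : C ⟶ C')
    [QuasiIso g] (l : List A) (i : ℤ) : (koszulOn C l).homology i ≅ (koszulOn C' l).homology i :=
  have := quasiIso_koszulOnMap g l
  isoOfQuasiIsoAt (koszulOnMap g l) i

/-- The cone functor on isomorphisms. -/
noncomputable def smulConeIso (x : A) {C C' : CochainComplex (ModuleCat.{u} A) ℤ} (e : C ≅ C') :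
    smulCone x C ≅ smulCone x C' where
  hom := smulConeMap x e.hom
  inv := smulConeMap x e.inv
  hom_inv_id := by
    rw [← mappingCone.map_comp]
    simp only [e.hom_inv_id]
    exact mappingCone.map_id _
  inv_hom_id := by
    rw [← mappingCone.map_comp]
    simp only [e.inv_hom_id]
    exact mappingCone.map_id _

/-- The head of the list may be applied first. -/
noncomputable def innerIso (C : CochainComplex (ModuleCat.{u} A) ℤ) (f : A) :
    ∀ l : List A, koszulOn C (f :: l) ≅ koszulOn (smulCone f C) l
  | [] => Iso.refl _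
  | g :: l => Null.swap (koszulOn C l) g f ≪≫ smulConeIso g (innerIso C f l)

theorem koszulOn_append (C : CochainComplex (ModuleCat.{u} A) ℤ) (l l' : List A) :
    koszulOn C (l ++ l') = koszulOn (koszulOn C l') l := by
  induction l with
  | nil => rfl
  | cons f l ih => exact congrArg (fun C => smulCone f C) ih

theorem exists_homotopy_of_mem (C : CochainComplex (ModuleCat.{u} A) ℤ) {a : A} :
    ∀ l : List A, a ∈ l → Nonempty (Homotopy (a • 𝟙 (koszulOn C l)) 0)
  | [], h => (List.not_mem_nil h).elim
  | f :: l, h => by
    rcases List.mem_cons.1 h with rfl | h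
    · exact ⟨smulSelf a (koszulOn C l)⟩
    · obtain ⟨H⟩ := exists_homotopy_of_mem C l h
      exact ⟨smulOther f (koszulOn C l) a H⟩

/-- Elements of the ideal are null-homotopic on the Koszul complex. -/
theorem exists_homotopy_of_mem_span (C : CochainComplex (ModuleCat.{u} A) ℤ) (l : List A) {a : A}
    (ha : a ∈ Ideal.span {x | x ∈ l}) : Nonempty (Homotopy (a • 𝟙 (koszulOn C l)) 0) :=
  (Ideal.span_le.2 fun _ hx => exists_homotopy_of_mem C l hx :
    Ideal.span {x | x ∈ l} ≤ nullIdeal (koszulOn C l)) ha

theorem smul_homology_eq_zero_of_mem_span (C : CochainComplex (ModuleCat.{u} A) ℤ) (l : List A)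
    {a : A} (ha : a ∈ Ideal.span {x | x ∈ l}) (i : ℤ) (h : (koszulOn C l).homology i) :
    a • h = 0 :=
  let ⟨H⟩ := exists_homotopy_of_mem_span C l ha
  Null.smul_homology_eq_zero H i h

theorem isZero_of_span_eq_top (C : CochainComplex (ModuleCat.{u} A) ℤ) (l : List A)
    (hl : Ideal.span {x | x ∈ l} = ⊤) (i : ℤ) : IsZero ((koszulOn C l).homology i) := by
  rw [ModuleCat.isZero_iff_subsingleton]
  refine ⟨fun a b => ?_⟩
  rw [← one_smul A a, ← one_smul A b,
    smul_homology_eq_zero_of_mem_span C l (hl ▸ Submodule.mem_top) i a,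
    smul_homology_eq_zero_of_mem_span C l (hl ▸ Submodule.mem_top) i b]

section Single

variable (M : ModuleCat.{u} A)

theorem isZero_sgl_homology (i : ℤ) (h : i ≠ 0) : IsZero ((sgl M).homology i) :=
  ((sgl M).exactAt_iff_isZero_homology i).1
    (HomologicalComplex.exactAt_single_obj _ 0 M i h)

/-- `H^0` of a module in degree zero. -/
noncomputable def sglHomologyEquiv : (sgl M).homology 0 ≃ₗ[A] M :=
  (HomologicalComplex.singleObjHomologySelfIso _ 0 M).toLinearEquiv

theorem isZero_of_pos (l : List A) : ∀ i : ℤ, 0 < i → IsZero ((koszulOn (sgl M) l).homology i) := by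
  induction l with
  | nil => exact fun i hi => isZero_sgl_homology M i hi.ne'
  | cons f l ih => exact fun i hi => isZero_homology_of_isZero _ _ i (ih i hi) (ih _ (by omega))

theorem isZero_of_lt (l : List A) :
    ∀ i : ℤ, i < -(l.length : ℤ) → IsZero ((koszulOn (sgl M) l).homology i) := by
  induction l with
  | nil => exact fun i hi => isZero_sgl_homology M i (by simpa using hi.ne)
  | cons f l ih =>
    intro i hi
    rw [List.length_cons] at hi
    exact isZero_homology_of_isZero _ _ i (ih i (by omega)) (ih _ (by omega))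

theorem finite_homology [IsNoetherianRing A] [Module.Finite A M] (l : List A) :
    ∀ i : ℤ, Module.Finite A ((koszulOn (sgl M) l).homology i) := by
  induction l with
  | nil =>
    intro i
    rcases eq_or_ne i 0 with rfl | h
    · exact Module.Finite.equiv (sglHomologyEquiv M).symm
    · have := ModuleCat.isZero_iff_subsingleton.1 (isZero_sgl_homology M i h)
      show Module.Finite A ((sgl M).homology i)
      infer_instance
  | cons f l ih => exact fun i => have := ih i; have := ih (i + 1); SmulCone.finite_homology f _ i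

/-- `H^0` of the Koszul complex is `M / (l) M`. -/
theorem nonempty_homology_zero (l : List A) :
    Nonempty ((koszulOn (sgl M) l).homology 0 ≃ₗ[A]
      (M ⧸ (Ideal.ofList l • ⊤ : Submodule A M))) := by
  induction l with
  | nil =>
    exact ⟨(sglHomologyEquiv M).trans (Submodule.quotEquivOfEqBot _
      (by simp [Ideal.ofList_nil])).symm⟩
  | cons f l ih =>
    obtain ⟨e⟩ := ih
    have hz := ModuleCat.isZero_iff_subsingleton.1 (isZero_of_pos M l (0 + 1) (by omega))
    refine ⟨(homologyEquivQuot f (koszulOn (sgl M) l) 0 fun h _ => Subsingleton.elim _ _).symm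
      ≪≫ₗ Submodule.Quotient.equiv _
        (Ideal.span {f} • ⊤ : Submodule A (M ⧸ (Ideal.ofList l • ⊤ : Submodule A M))) e ?_ ≪≫ₗ ?_⟩
    · rw [Submodule.map_smul'', Submodule.map_top, LinearEquiv.range]
    · refine (Submodule.quotEquivOfEq _ ((Ideal.ofList (f :: l) • ⊤ : Submodule A M).map
        (Submodule.mkQ _)) ?_) ≪≫ₗ Submodule.quotientQuotientEquivQuotient _ _ ?_
      · rw [Ideal.ofList_cons, Submodule.sup_smul, Submodule.map_sup, Submodule.map_smul'',
          Submodule.map_top, Submodule.range_mkQ, Submodule.mkQ_map_self, sup_bot_eq]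
      · rw [Ideal.ofList_cons, Submodule.sup_smul]
        exact le_sup_right

end Single

/-- For `f` injective on `M`, the cone of `f` is a resolution of `M / f M`. -/
noncomputable def coneToQuot (M : ModuleCat.{u} A) (f : A) :
    smulCone f (sgl M) ⟶ sgl (ModuleCat.of A (QuotSMulTop f M)) :=
  mappingCone.desc (f • 𝟙 (sgl M)) 0
    ((HomologicalComplex.single _ _ 0).map (ModuleCat.ofHom (Submodule.mkQ _)))
    (by
      rw [HomComplex.δ_zero, Linear.smul_comp, Category.id_comp]
      symm
      rw [← HomComplex.Cochain.ofHom_zero]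
      congr 1
      apply HomologicalComplex.from_single_hom_ext
      simp only [HomologicalComplex.smul_f_apply, HomologicalComplex.single_map_f_self,
        HomologicalComplex.zero_f]
      rw [← Linear.comp_smul, ← Linear.smul_comp]
      have : (f • ModuleCat.ofHom (Submodule.mkQ (f • ⊤ : Submodule A M))) = 0 := by
        apply ModuleCat.hom_ext
        refine LinearMap.ext fun m => ?_
        exact (Submodule.Quotient.mk_eq_zero _).2 (Submodule.smul_mem_pointwise_smul m f ⊤ trivial)
      rw [this]
      simp)

theorem inr_coneToQuot (M : ModuleCat.{u} A) (f : A) :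
    mappingCone.inr (f • 𝟙 (sgl M)) ≫ coneToQuot M f =
      (HomologicalComplex.single _ _ 0).map (ModuleCat.ofHom (Submodule.mkQ _)) :=
  mappingCone.inr_desc _ _ _ _

theorem quasiIso_coneToQuot (M : ModuleCat.{u} A) (f : A) (hf : IsSMulRegular M f) :
    QuasiIso (coneToQuot M f) := by
  have hinj : ∀ h : (sgl M).homology 0, f • h = 0 → h = 0 := fun h hh => by
    apply (sglHomologyEquiv M).injective
    rw [map_zero]
    apply hf
    show f • _ = f • (0 : M)
    rw [← map_smul, hh, map_zero, smul_zero]
  rw [quasiIso_iff]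
  intro i
  rw [quasiIsoAt_iff_isIso_homologyMap]
  rcases eq_or_ne i 0 with rfl | hi
  · let q := HomologicalComplex.homologyMap
      ((HomologicalComplex.single _ (ComplexShape.up ℤ) 0).map
        (ModuleCat.ofHom (Submodule.mkQ (f • ⊤ : Submodule A M)))) 0
    have hq : ∀ h, sglHomologyEquiv _ (q h) = Submodule.Quotient.mk (sglHomologyEquiv M h) := fun h =>
      (ConcreteCategory.comp_apply _ _ h).symm.trans
        ((congrArg (fun g => g.hom h)
          (HomologicalComplex.singleObjHomologySelfIso_hom_naturality (ComplexShape.up ℤ) 0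
            (ModuleCat.ofHom (Submodule.mkQ (f • ⊤ : Submodule A M))))).trans
          (ConcreteCategory.comp_apply _ _ h))
    have hfac : ∀ h, HomologicalComplex.homologyMap (coneToQuot M f) 0 (inH f (sgl M) 0 h) = q h := by
      intro h
      simp only [inH, q]
      rw [← ConcreteCategory.comp_apply, ← HomologicalComplex.homologyMap_comp, inr_coneToQuot]
    have hsurj : Function.Surjective (inH f (sgl M) 0) := fun z =>
      (exact_inH_outH f (sgl M) 0 z).1
        (have := ModuleCat.isZero_iff_subsingleton.1 (isZero_sgl_homology M (0 + 1) (by omega))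
         Subsingleton.elim _ _)
    rw [ConcreteCategory.isIso_iff_bijective]
    constructor
    · rw [injective_iff_map_eq_zero]
      intro z hz
      obtain ⟨h, rfl⟩ := hsurj z
      rw [hfac] at hz
      have := hq h
      rw [hz, map_zero, eq_comm, Submodule.Quotient.mk_eq_zero,
        Submodule.mem_smul_pointwise_iff_exists] at this
      obtain ⟨m, -, hm⟩ := this
      exact (inH_eq_zero_iff f _ 0 h).2
        ⟨(sglHomologyEquiv M).symm m, by rw [← map_smul, hm, LinearEquiv.symm_apply_apply]⟩
    · intro z
      obtain ⟨m, hm⟩ := Submodule.Quotient.mk_surjective _ (sglHomologyEquiv _ z)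
      refine ⟨inH f (sgl M) 0 ((sglHomologyEquiv M).symm m), (sglHomologyEquiv _).injective ?_⟩
      rw [hfac, hq, LinearEquiv.apply_symm_apply, hm]
  · have h1 : IsZero ((smulCone f (sgl M)).homology i) := by
      rw [isZero_homology_iff]
      have := ModuleCat.isZero_iff_subsingleton.1 (isZero_sgl_homology M i hi)
      refine ⟨fun b => ⟨b, Subsingleton.elim _ _⟩, fun b hb => ?_⟩
      rcases eq_or_ne (i + 1) 0 with h | h
      · have key : ∀ (j : ℤ), j = 0 → ∀ b : (sgl M).homology j, f • b = 0 → b = 0 := by
          rintro _ rfl; exact hinj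
        exact key _ h b hb
      · have := ModuleCat.isZero_iff_subsingleton.1 (isZero_sgl_homology M _ h)
        exact Subsingleton.elim _ _
    exact isIso_of_source_target_iso_zero _ h1.isoZero (isZero_sgl_homology _ i hi).isoZero

/-- Koszul homology of a weakly regular sequence vanishes outside degree zero. -/
theorem isZero_of_weaklyRegular (M : ModuleCat.{u} A) (l : List A)
    (h : RingTheory.Sequence.IsWeaklyRegular M l) (i : ℤ) (hi : i ≠ 0) :
    IsZero ((koszulOn (sgl M) l).homology i) := by
  induction l generalizing M with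
  | nil => exact isZero_sgl_homology M i hi
  | cons f l ih =>
    rw [RingTheory.Sequence.isWeaklyRegular_cons_iff] at h
    have := quasiIso_coneToQuot M f h.1
    exact IsZero.of_iso (ih (ModuleCat.of A (QuotSMulTop f M)) h.2)
      ((HomologicalComplex.homologyFunctor _ _ i).mapIso (innerIso (sgl M) f l) ≪≫
        homologyIsoOfQuasiIso (coneToQuot M f) l i)

end Groth.Agent.Lib.Koszul.Basic
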