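import Groth.Agent.Lib.Koszul.Euler
import Groth.Prelude.Def_CAlg
import Mathlib.RingTheory.Ideal.AssociatedPrime.Finiteness
import Mathlib.RingTheory.Regular.RegularSequence

/-!
# Depth sensitivity of Koszul complexes
-/

universe u

open CategoryTheory CategoryTheory.Limits CochainComplex
open scoped Pointwise

namespace Groth.Agent.Lib.Koszul.Depth

open Groth.Agent.Lib.Koszul.Cone Groth.Agent.Lib.Koszul.SmulCone Groth.Agent.Lib.Koszul.Basic
open Groth.Agent.Lib.Koszul.Euler

variable {A : Type u} [CommRing A]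

theorem koszulOnMap_smul (C : CochainComplex (ModuleCat.{u} A) ℤ) (a : A) :
    ∀ l : List A, koszulOnMap (a • 𝟙 C) l = a • 𝟙 (koszulOn C l)
  | [] => rfl
  | f :: l => by
    refine HomologicalComplex.hom_ext _ _ fun i => ModuleCat.hom_ext (LinearMap.ext fun z => ?_)
    obtain ⟨⟨x, y⟩, rfl⟩ := cmk_surjective (f • 𝟙 (koszulOn C l)) i (i + 1) rfl z
    show (smulConeMap f (koszulOnMap (a • 𝟙 C) l)).f i (cmk _ i (i + 1) rfl (x, y)) =
      a • cmk (f • 𝟙 (koszulOn C l)) i (i + 1) rfl (x, y)
    rw [smulConeMap_cmk, koszulOnMap_smul C a l, map_smul_id, map_smul_id, ← map_smul, Prod.smul_mk]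

/-- The long exact sequence of `0 → M → M → M / a M → 0`, when `a` is in the ideal. -/
theorem exists_exact_of_regular (M : Type u) [AddCommGroup M] [Module A M] {a : A}
    (ha : IsSMulRegular M a) (l : List A) (hal : a ∈ span' l) (i : ℤ) :
    ∃ (g : (koszulOn (sgl (ModuleCat.of A M)) l).homology i →ₗ[A]
        (koszulOn (sgl (ModuleCat.of A (QuotSMulTop a M))) l).homology i)
      (δ : (koszulOn (sgl (ModuleCat.of A (QuotSMulTop a M))) l).homology i →ₗ[A]
        (koszulOn (sgl (ModuleCat.of A M)) l).homology (i + 1)),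
      Function.Injective g ∧ Function.Exact g δ ∧ Function.Surjective δ := by
  let φ : sgl (ModuleCat.of A M) ⟶ sgl (ModuleCat.of A M) := a • 𝟙 _
  let ψ : sgl (ModuleCat.of A M) ⟶ sgl (ModuleCat.of A (QuotSMulTop a M)) :=
    (HomologicalComplex.single _ (ComplexShape.up ℤ) 0).map (ModuleCat.ofHom (Submodule.mkQ _))
  have h0 : ∀ (X : ModuleCat.{u} A) (j : ℤ), j ≠ 0 → Subsingleton ((sgl X).X j) := fun X j hj =>
    ModuleCat.isZero_iff_subsingleton.1
      (HomologicalComplex.isZero_single_obj_X (ComplexShape.up ℤ) 0 X j hj)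
  have key : ∀ j, Function.Injective ((koszulOnMap φ l).f j) ∧
      Function.Surjective ((koszulOnMap ψ l).f j) ∧
      Function.Exact ((koszulOnMap φ l).f j) ((koszulOnMap ψ l).f j) := by
    let e := (HomologicalComplex.singleObjXSelf (ComplexShape.up ℤ) 0 (ModuleCat.of A M)).toLinearEquiv
    let e' := (HomologicalComplex.singleObjXSelf (ComplexShape.up ℤ) 0
      (ModuleCat.of A (QuotSMulTop a M))).toLinearEquiv
    have hψ : ∀ z, e' (ψ.f 0 z) = Submodule.Quotient.mk (e z) := fun z =>
      single_f_bijective (ModuleCat.ofHom (Submodule.mkQ _)) z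
    refine exact_koszulOnMap φ ψ (fun j => ?_) (fun j => ?_) (fun j => ?_) l
    · rcases eq_or_ne j 0 with rfl | hj
      · intro x y h
        apply e.injective
        apply ha
        show a • e x = a • e y
        rw [← map_smul, ← map_smul]
        exact congrArg e h
      · have := h0 (ModuleCat.of A M) j hj
        exact Function.injective_of_subsingleton _
    · rcases eq_or_ne j 0 with rfl | hj
      · intro z
        obtain ⟨m, hm⟩ := Submodule.Quotient.mk_surjective _ (e' z)
        exact ⟨e.symm m, e'.injective (by rw [hψ, e.apply_symm_apply, hm])⟩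
      · have := h0 (ModuleCat.of A (QuotSMulTop a M)) j hj
        exact fun z => ⟨0, Subsingleton.elim _ _⟩
    · rcases eq_or_ne j 0 with rfl | hj
      · intro z
        constructor
        · intro h
          have h' : (Submodule.Quotient.mk (e z) : QuotSMulTop a M) = 0 := by
            rw [← hψ, h, map_zero]
          obtain ⟨m, -, hm⟩ :=
            (Submodule.mem_smul_pointwise_iff_exists _ _ _).1 ((Submodule.Quotient.mk_eq_zero _).1 h')
          refine ⟨e.symm m, e.injective ?_⟩
          show e (a • e.symm m) = e z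
          rw [map_smul, e.apply_symm_apply]
          exact hm
        · rintro ⟨w, rfl⟩
          apply e'.injective
          rw [map_zero, hψ, Submodule.Quotient.mk_eq_zero]
          show e (a • w) ∈ _
          rw [map_smul]
          exact Submodule.smul_mem_pointwise_smul _ _ _ trivial
      · have := h0 (ModuleCat.of A M) j hj
        have := h0 (ModuleCat.of A (QuotSMulTop a M)) j hj
        exact fun z => ⟨fun _ => ⟨0, Subsingleton.elim _ _⟩, fun _ => Subsingleton.elim _ _⟩
  have w : koszulOnMap φ l ≫ koszulOnMap ψ l = 0 := by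
    ext j z
    exact (key j).2.2.apply_apply_eq_zero z
  have hS : (ShortComplex.mk (koszulOnMap φ l) (koszulOnMap ψ l) w).ShortExact :=
    HomologicalComplex.shortExact_of_degreewise_shortExact _ fun j =>
      ModuleCat.shortComplex_shortExact _ (key j).2.2 (key j).1 (key j).2.1
  have hzero : ∀ j h, HomologicalComplex.homologyMap (koszulOnMap φ l) j h = 0 := by
    intro j h
    obtain ⟨H⟩ := exists_homotopy_of_mem_span (sgl (ModuleCat.of A M)) l hal
    rw [show koszulOnMap φ l = a • 𝟙 _ from koszulOnMap_smul _ a l, H.homologyMap_eq j,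
      HomologicalComplex.homologyMap_zero]
    rfl
  have e2 := (ShortComplex.ShortExact.moduleCat_exact_iff_function_exact _).1 (hS.homology_exact₂ i)
  have e3 := (ShortComplex.ShortExact.moduleCat_exact_iff_function_exact _).1
    (hS.homology_exact₃ i (i + 1) (by simp))
  have e1 := (ShortComplex.ShortExact.moduleCat_exact_iff_function_exact _).1
    (hS.homology_exact₁ i (i + 1) (by simp))
  refine ⟨(HomologicalComplex.homologyMap (koszulOnMap ψ l) i).hom,
    (hS.δ i (i + 1) (by simp)).hom, ?_, e3, fun z => (e1 z).1 (hzero _ z)⟩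
  rw [injective_iff_map_eq_zero]
  intro z hz
  obtain ⟨y, rfl⟩ := (e2 z).1 hz
  exact hzero i y

/-- The vanishing of `H^{q}` for `q < rs.length - l.length`. -/
theorem isZero_of_regular (l : List A) : ∀ (rs : List A) (M : Type u) [AddCommGroup M] [Module A M],
    RingTheory.Sequence.IsWeaklyRegular M rs → (∀ a ∈ rs, a ∈ span' l) →
    ∀ q : ℤ, q < (rs.length : ℤ) - l.length →
      IsZero ((koszulOn (sgl (ModuleCat.of A M)) l).homology q)
  | [], M, _, _, _, _, q, hq => isZero_of_lt _ l q (by simpa using hq)
  | a :: rs, M, _, _, hreg, hmem, q, hq => by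
    rw [RingTheory.Sequence.isWeaklyRegular_cons_iff] at hreg
    obtain ⟨g, δ, -, -, hδ⟩ := exists_exact_of_regular M hreg.1 l (hmem a (by simp)) (q - 1)
    have := ModuleCat.isZero_iff_subsingleton.1 (isZero_of_regular l rs (QuotSMulTop a M) hreg.2
      (fun b hb => hmem b (by simp [hb])) (q - 1) (by rw [List.length_cons] at hq; omega))
    rw [ModuleCat.isZero_iff_subsingleton]
    have := hδ.subsingleton
    have key : ∀ j, j = q → Subsingleton ((koszulOn (sgl (ModuleCat.of A M)) l).homology j) →
        Subsingleton ((koszulOn (sgl (ModuleCat.of A M)) l).homology q) := by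
      rintro _ rfl h; exact h
    exact key _ (by omega) this

/-- An element killed by the ideal gives a class in the lowest degree. -/
theorem exists_bottom_class (M : ModuleCat.{u} A) {m : M} (hm : m ≠ 0) : ∀ l : List A,
    (∀ a ∈ l, a • m = 0) → ∃ z : (koszulOn (sgl M) l).homology (-(l.length : ℤ)),
      z ≠ 0 ∧ ∀ a : A, a • m = 0 → a • z = 0
  | [], _ =>
    (⟨(sglHomologyEquiv M).symm m, fun h => hm (by
        rw [← (sglHomologyEquiv M).apply_symm_apply m, h, map_zero]),
      fun a ha => by rw [← map_smul, ha, map_zero]⟩ :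
      ∃ z : (sgl M).homology 0, z ≠ 0 ∧ ∀ a : A, a • m = 0 → a • z = 0)
  | f :: l, hl => by
    obtain ⟨z, hz, hza⟩ := exists_bottom_class M hm l fun a ha => hl a (by simp [ha])
    have key : ∀ j : ℤ, j + 1 = -(l.length : ℤ) →
        ∃ y : (koszulOn (sgl M) (f :: l)).homology j, y ≠ 0 ∧ ∀ a : A, a • m = 0 → a • y = 0 := by
      intro j hj
      have key' : ∀ t : ℤ, t = -(l.length : ℤ) →
          ∃ z : (koszulOn (sgl M) l).homology t, z ≠ 0 ∧ ∀ a : A, a • m = 0 → a • z = 0 := by
        rintro _ rfl; exact ⟨z, hz, hza⟩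
      obtain ⟨z', hz', hza'⟩ := key' _ hj
      obtain ⟨y, hy⟩ := (range_outH f (koszulOn (sgl M) l) j z').2 (hza' f (hl f (by simp)))
      have hinj : Function.Injective (outH f (koszulOn (sgl M) l) j) := by
        rw [injective_iff_map_eq_zero]
        intro w hw
        obtain ⟨v, rfl⟩ := (exact_inH_outH f (koszulOn (sgl M) l) j w).1 hw
        have := ModuleCat.isZero_iff_subsingleton.1 (isZero_of_lt M l j (by omega))
        rw [Subsingleton.elim v 0, map_zero]
      show ∃ y : (smulCone f (koszulOn (sgl M) l)).homology j, y ≠ 0 ∧ ∀ a : A, a • m = 0 → a • y = 0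
      refine ⟨y, fun h => hz' (by rw [← hy, h]; exact map_zero _), fun a ha => hinj ?_⟩
      rw [map_zero, map_smul, hy, hza' a ha]
    exact key _ (by simp)

variable [IsNoetherianRing A]

/-- If no element of the ideal is regular on `M`, some nonzero element is killed by it. -/
theorem exists_killed (M : Type u) [AddCommGroup M] [Module A M] [Module.Finite A M] (I : Ideal A)
    (h : ∀ a ∈ I, ¬ IsSMulRegular M a) : ∃ m : M, m ≠ 0 ∧ ∀ a ∈ I, a • m = 0 := by
  have hsub : (I : Set A) ⊆ ⋃ p ∈ associatedPrimes A M, p := by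
    rw [biUnion_associatedPrimes_eq_zero_divisors]
    intro a ha
    by_contra hc
    refine h a ha fun x y hxy => ?_
    by_contra hne
    exact hc ⟨x - y, sub_ne_zero.2 hne, by rw [smul_sub]; exact sub_eq_zero.2 hxy⟩
  obtain ⟨P, hP, hIP⟩ :=
    (I.subset_union_prime_finite (associatedPrimes.finite ..) (f := id) ⊤ ⊤
      fun _ h _ _ => h.isPrime).1 hsub
  rw [AssociatedPrimes.mem_iff, isAssociatedPrime_iff] at hP
  obtain ⟨hprime, m, hm⟩ := hP
  refine ⟨m, fun h0 => hprime.ne_top ?_, fun a ha => ?_⟩
  · rw [hm, h0]; ext; simp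
  · have hha := hIP ha
    rw [show (id P : Ideal A) = P from rfl, hm] at hha
    simpa using hha

/-- Nonvanishing in the degree of a maximal regular sequence. -/
theorem not_isZero_of_maximal (l : List A) (hl : span' l ≤ Ring.jacobson A) :
    ∀ (rs : List A) (M : Type u) [AddCommGroup M] [Module A M], Module.Finite A M → Nontrivial M →
      RingTheory.Sequence.IsWeaklyRegular M rs → (∀ a ∈ rs, a ∈ span' l) →
      (∀ a ∈ span' l, ¬ RingTheory.Sequence.IsWeaklyRegular M (rs ++ [a])) →
      ¬ IsZero ((koszulOn (sgl (ModuleCat.of A M)) l).homology ((rs.length : ℤ) - l.length))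
  | [], M, _, _, _, _, _, _, hmax => by
    obtain ⟨m, hm, hkill⟩ := exists_killed M (span' l) fun a ha hr => hmax a ha
      ((RingTheory.Sequence.isWeaklyRegular_singleton_iff M a).2 hr)
    obtain ⟨z, hz, -⟩ := exists_bottom_class (ModuleCat.of A M) hm l
      fun a ha => hkill a (Ideal.subset_span ha)
    rw [show ((List.nil : List A).length : ℤ) - l.length = -(l.length : ℤ) by simp,
      ModuleCat.isZero_iff_subsingleton]
    exact fun h => hz (Subsingleton.elim _ _)
  | a :: rs, M, _, _, hfin, hnt, hreg, hmem, hmax => by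
    rw [RingTheory.Sequence.isWeaklyRegular_cons_iff] at hreg
    have hal := hmem a (by simp)
    have hnt' : Nontrivial (QuotSMulTop a M) := Submodule.Quotient.nontrivial_iff.mpr
      (Submodule.top_ne_pointwise_smul_of_mem_jacobson_annihilator
        ((Module.annihilator A M).ringJacobson_le_jacobson (hl hal))).symm
    have hne := not_isZero_of_maximal l hl rs (QuotSMulTop a M) inferInstance hnt' hreg.2
      (fun b hb => hmem b (by simp [hb])) fun b hb hr => hmax b hb (by
        rw [List.cons_append, RingTheory.Sequence.isWeaklyRegular_cons_iff]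
        exact ⟨hreg.1, hr⟩)
    obtain ⟨g, δ, -, he, -⟩ := exists_exact_of_regular M hreg.1 l hal ((rs.length : ℤ) - l.length)
    have := ModuleCat.isZero_iff_subsingleton.1 (isZero_of_regular l (a :: rs) M
      ((RingTheory.Sequence.isWeaklyRegular_cons_iff M a rs).2 hreg) hmem
      ((rs.length : ℤ) - l.length) (by simp))
    intro hz
    apply hne
    rw [ModuleCat.isZero_iff_subsingleton] at hz ⊢
    have key : ∀ j : ℤ, j = ((a :: rs).length : ℤ) - l.length →
        Subsingleton ((koszulOn (sgl (ModuleCat.of A M)) l).homology j) := by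
      rintro _ rfl; exact hz
    have := key ((rs.length : ℤ) - l.length + 1) (by rw [List.length_cons]; omega)
    refine subsingleton_of_forall_eq 0 fun z => ?_
    obtain ⟨y, rfl⟩ := (he z).1 (Subsingleton.elim _ _)
    rw [Subsingleton.elim y 0, map_zero]

omit [IsNoetherianRing A] in
theorem koszulH_iff (xs : List A) (M : Type u) [AddCommGroup M] [Module A M] (p : ℕ) :
    IsZero (CohIII.koszulH xs (ModuleCat.of A M) p) ↔
      IsZero ((koszulOn (sgl (ModuleCat.of A M)) xs).homology ((p : ℤ) - xs.length)) :=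
  (cxHomologyIso (ModuleCat.of A M) xs _).isZero_iff

/-- Depth sensitivity. -/
theorem depth_sensitivity [IsLocalRing A] (M : Type u) [AddCommGroup M] [Module A M]
    [Module.Finite A M] [Nontrivial M] (xs : List A) (hxs : ∀ x ∈ xs, x ∈ IsLocalRing.maximalIdeal A) :
    LocCoh.idealDepth (span' xs) M ≤ xs.length ∧
      (∀ p : ℕ, (p : ℕ∞) < LocCoh.idealDepth (span' xs) M →
        IsZero (CohIII.koszulH xs (ModuleCat.of A M) p)) ∧
      (∀ r : ℕ, LocCoh.idealDepth (span' xs) M = r →
        ¬ IsZero (CohIII.koszulH xs (ModuleCat.of A M) r)) := by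
  have hj : span' xs ≤ Ring.jacobson A := by
    rw [IsLocalRing.ringJacobson_eq_maximalIdeal]; exact Ideal.span_le.2 hxs
  have hne : (span' xs • ⊤ : Submodule A M) ≠ ⊤ :=
    Submodule.top_ne_ideal_smul_of_le_jacobson_annihilator
      (hj.trans (Module.annihilator A M).ringJacobson_le_jacobson) |>.symm
  rw [LocCoh.idealDepth, if_neg hne]
  have hbd : ∀ rs : List A, RingTheory.Sequence.IsWeaklyRegular M rs →
      (∀ r ∈ rs, r ∈ span' xs) → rs.length ≤ xs.length := by
    intro rs hr hmem
    by_contra hlt
    obtain ⟨e⟩ := nonempty_homology_zero (ModuleCat.of A M) xs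
    have := ModuleCat.isZero_iff_subsingleton.1 (isZero_of_regular xs rs M hr hmem 0 (by omega))
    refine hne (Submodule.Quotient.subsingleton_iff.1 ?_)
    have hofList : (Ideal.ofList xs : Ideal A) = span' xs := rfl
    rw [← hofList]
    exact e.symm.toEquiv.subsingleton
  refine ⟨iSup₂_le fun rs h => by exact_mod_cast hbd rs h.1 h.2, fun p hp => ?_, fun r hr => ?_⟩
  · simp only [lt_iSup_iff] at hp
    obtain ⟨rs, h, hlt⟩ := hp
    rw [koszulH_iff]
    exact isZero_of_regular xs rs M h.1 h.2 _ (by have : p < rs.length := by exact_mod_cast hlt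
                                                  omega)
  · have hex : ∃ rs : List A, (RingTheory.Sequence.IsWeaklyRegular M rs ∧ ∀ b ∈ rs, b ∈ span' xs) ∧
        rs.length = r := by
      rcases Nat.eq_zero_or_pos r with rfl | hpos
      · exact ⟨[], ⟨RingTheory.Sequence.IsWeaklyRegular.nil A M, by simp⟩, rfl⟩
      by_contra hno
      push Not at hno
      have hle : (⨆ (rs : List A) (_ : RingTheory.Sequence.IsWeaklyRegular M rs ∧
          ∀ b ∈ rs, b ∈ span' xs), (rs.length : ℕ∞)) ≤ ((r - 1 : ℕ) : ℕ∞) := by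
        refine iSup₂_le fun rs h => ?_
        have h1 := hno rs h
        have h2 : (rs.length : ℕ∞) ≤ r := hr ▸
          le_iSup₂ (f := fun (rs : List A) (_ : RingTheory.Sequence.IsWeaklyRegular M rs ∧
            ∀ b ∈ rs, b ∈ span' xs) => (rs.length : ℕ∞)) rs h
        norm_cast at h2 ⊢
        omega
      rw [hr] at hle
      norm_cast at hle
      omega
    obtain ⟨rs, ⟨h1, h2⟩, rfl⟩ := hex
    rw [koszulH_iff]
    refine not_isZero_of_maximal xs hj rs M inferInstance inferInstance h1 h2 fun a ha hreg => ?_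
    have h3 : ((rs ++ [a]).length : ℕ∞) ≤ rs.length := hr ▸
      le_iSup₂ (f := fun (rs : List A) (_ : RingTheory.Sequence.IsWeaklyRegular M rs ∧
        ∀ b ∈ rs, b ∈ span' xs) => (rs.length : ℕ∞)) (rs ++ [a]) ⟨hreg, fun b hb => by
          rcases List.mem_append.1 hb with hb | hb
          · exact h2 b hb
          · obtain rfl := List.mem_singleton.1 hb; exact ha⟩
    rw [List.length_append, List.length_singleton] at h3
    norm_cast at h3
    omega

end Groth.Agent.Lib.Koszul.Depth
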