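import Groth.Agent.Lib.Koszul.Chi
import Groth.Agent.Lib.Koszul.Tensor
import Groth.Agent.Lib.CycAlg.Smul
import Mathlib.RingTheory.Finiteness.Defs

/-!
# Koszul complexes of finite modules with `M / I M` of finite length
-/

universe u

open CategoryTheory CategoryTheory.Limits CochainComplex
open scoped Pointwise

namespace Groth.Agent.Lib.Koszul.Euler

open Groth.Agent.Lib.Koszul.Cone Groth.Agent.Lib.Koszul.SmulCone Groth.Agent.Lib.Koszul.Basic
open Groth.Agent.Lib.Koszul.Chi

variable {A : Type u} [CommRing A]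

/-- The ideal of a list. -/
abbrev span' (l : List A) : Ideal A := Ideal.span {x | x ∈ l}

theorem span'_ofFn {n : ℕ} (x : Fin n → A) : span' (List.ofFn x) = Ideal.span (Set.range x) := by
  rw [span', show {a | a ∈ List.ofFn x} = Set.range x from Set.ext fun a => List.mem_ofFn]

theorem supportDim_le_zero_of_isFiniteLength {N : Type u} [AddCommGroup N] [Module A N]
    [Module.Finite A N] (h : IsFiniteLength A N) : Module.supportDim A N ≤ 0 := by
  obtain ⟨n, g, hg⟩ := Module.Finite.exists_fin (R := A) (M := N)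
  obtain ⟨-, hart⟩ := isFiniteLength_iff_isNoetherian_isArtinian.1 h
  let φ : A →ₗ[A] (Fin n → N) := LinearMap.pi fun j => LinearMap.toSpanSingleton A N (g j)
  have hker : LinearMap.ker φ = Module.annihilator A N := by
    ext a
    rw [LinearMap.mem_ker, Module.mem_annihilator]
    constructor
    · intro ha z
      have hz : z ∈ Submodule.span A (Set.range g) := hg ▸ trivial
      induction hz using Submodule.span_induction with
      | mem x hx => obtain ⟨j, rfl⟩ := hx; exact congrFun ha j
      | zero => exact smul_zero a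
      | add x y _ _ ihx ihy => rw [smul_add, ihx, ihy, add_zero]
      | smul r x _ ih => rw [smul_comm, ih, smul_zero]
    · intro ha
      funext j
      exact ha (g j)
  have hfin : IsArtinian A (A ⧸ Module.annihilator A N) := by
    rw [← hker]
    exact isArtinian_of_linearEquiv φ.quotKerEquivRange.symm
  have : IsArtinianRing (A ⧸ Module.annihilator A N) := isArtinian_of_tower A hfin
  rw [Module.supportDim_eq_ringKrullDim_quotient_annihilator]
  exact Ring.krullDimLE_iff.1 inferInstance

variable [IsNoetherianRing A]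

omit [IsNoetherianRing A] in
theorem supportDim_le_of_subset {N N' : Type u} [AddCommGroup N] [Module A N] [AddCommGroup N']
    [Module A N'] (h : Module.support A N ⊆ Module.support A N') :
    Module.supportDim A N ≤ Module.supportDim A N' :=
  Order.krullDim_le_of_strictMono (fun p => ⟨p.1, h p.2⟩) fun _ _ h => h

theorem length_lt_top_of_support_subset {N N' : Type u} [AddCommGroup N] [Module A N]
    [Module.Finite A N] [AddCommGroup N'] [Module A N'] [Module.Finite A N']
    (h : IsFiniteLength A N') (hs : Module.support A N ⊆ Module.support A N') :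
    Module.length A N < ⊤ :=
  CycAlg.Smul.length_lt_top_of_supportDim_le_zero N
    ((supportDim_le_of_subset hs).trans (supportDim_le_zero_of_isFiniteLength h))

/-- `N / J N` has finite length if `Supp N ∩ V(J) ⊆ Supp M ∩ V(I)` and `M / I M` has finite length. -/
theorem isFiniteLength_quot {M N : Type u} [AddCommGroup M] [Module A M] [Module.Finite A M]
    [AddCommGroup N] [Module A N] [Module.Finite A N] {I J : Ideal A}
    (hfl : IsFiniteLength A (M ⧸ (I • ⊤ : Submodule A M)))
    (hs : ∀ p ∈ Module.support A N, J ≤ p.asIdeal → p ∈ Module.support A M ∧ I ≤ p.asIdeal) :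
    IsFiniteLength A (N ⧸ (J • ⊤ : Submodule A N)) := by
  refine Module.length_ne_top_iff.1 (length_lt_top_of_support_subset hfl ?_).ne
  rw [Module.support_quotient, Module.support_quotient]
  rintro p ⟨hp, hJ⟩
  exact hs p hp hJ

theorem isFiniteLength_quot_mono {M N : Type u} [AddCommGroup M] [Module A M] [Module.Finite A M]
    [AddCommGroup N] [Module A N] [Module.Finite A N] {I : Ideal A}
    (hfl : IsFiniteLength A (M ⧸ (I • ⊤ : Submodule A M)))
    (hs : Module.support A N ⊆ Module.support A M) :
    IsFiniteLength A (N ⧸ (I • ⊤ : Submodule A N)) :=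
  isFiniteLength_quot hfl fun _ hp hI => ⟨hs hp, hI⟩

omit [IsNoetherianRing A] in
theorem annihilator_le_nullIdeal (M : ModuleCat.{u} A) :
    ∀ l : List A, Module.annihilator A M ≤ Null.nullIdeal (koszulOn (sgl M) l)
  | [] => fun a ha => ⟨Homotopy.ofEq (by
      show a • 𝟙 (sgl M) = 0
      refine HomologicalComplex.hom_ext _ _ fun i => ModuleCat.hom_ext (LinearMap.ext fun z => ?_)
      show a • z = (0 : (sgl M).X i)
      rcases eq_or_ne i 0 with rfl | hi
      · apply (HomologicalComplex.singleObjXSelf (ComplexShape.up ℤ) 0 M).toLinearEquiv.injective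
        rw [map_smul, map_zero]
        exact Module.mem_annihilator.1 ha _
      · have := ModuleCat.isZero_iff_subsingleton.1
          (HomologicalComplex.isZero_single_obj_X (ComplexShape.up ℤ) 0 M i hi)
        exact Subsingleton.elim _ _)⟩
  | f :: l => fun a ha =>
    let ⟨H⟩ := annihilator_le_nullIdeal M l ha
    ⟨Null.smulOther f (koszulOn (sgl M) l) a H⟩

variable (M : ModuleCat.{u} A) [Module.Finite A M]

/-- With `M / (l) M` of finite length, the Koszul homology has finite length. -/
theorem fin_koszulOn (l : List A) (hfl : IsFiniteLength A (M ⧸ (span' l • ⊤ : Submodule A M))) :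
    Fin' (koszulOn (sgl M) l) := by
  intro i
  have := finite_homology M l i
  refine length_lt_top_of_support_subset hfl fun p hp => ?_
  rw [Module.support_eq_zeroLocus] at hp
  rw [Module.support_quotient, Module.support_eq_zeroLocus]
  exact ⟨fun a ha => hp (Module.mem_annihilator.2 fun h =>
      let ⟨H⟩ := annihilator_le_nullIdeal M l ha
      Null.smul_homology_eq_zero H i h),
    fun a ha => hp (Module.mem_annihilator.2 fun h => smul_homology_eq_zero_of_mem_span _ l ha i h)⟩

omit [IsNoetherianRing A] [Module.Finite A M] in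
theorem bdd_koszulOn : ∀ l : List A, Bdd (koszulOn (sgl M) l)
  | [] => ⟨{0}, fun i hi => isZero_sgl_homology M i (by simpa using hi)⟩
  | f :: l => bdd_smulCone f _ (bdd_koszulOn l)

omit [IsNoetherianRing A] [Module.Finite A M] in
theorem chi_perm {l l' : List A} (h : l.Perm l') :
    chi (koszulOn (sgl M) l) = chi (koszulOn (sgl M) l') :=
  let ⟨e⟩ := Tensor.nonempty_iso_of_perm (sgl M) h
  chi_congr fun i => (HomologicalComplex.homologyFunctor _ _ i).mapIso e

omit [IsNoetherianRing A] [Module.Finite A M] in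
theorem fin_perm {l l' : List A} (h : l.Perm l') (hf : Fin' (koszulOn (sgl M) l)) :
    Fin' (koszulOn (sgl M) l') :=
  let ⟨e⟩ := Tensor.nonempty_iso_of_perm (sgl M) h
  fin_congr (fun i => (HomologicalComplex.homologyFunctor _ _ i).mapIso e) hf

omit [IsNoetherianRing A] [Module.Finite A M] in
/-- The Euler characteristic is multiplicative in the exponents. -/
theorem fin_and_chi_pow_list : ∀ (l : List (A × ℕ)) (r : List A),
    Fin' (koszulOn (sgl M) (l.map Prod.fst ++ r)) →
    Fin' (koszulOn (sgl M) ((l.map fun p => p.1 ^ p.2) ++ r)) ∧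
      chi (koszulOn (sgl M) ((l.map fun p => p.1 ^ p.2) ++ r)) =
        ((l.map fun p => (p.2 : ℤ)).prod) * chi (koszulOn (sgl M) (l.map Prod.fst ++ r))
  | [], _ => fun h => ⟨h, by simp⟩
  | (x, m) :: l, r => fun h => by
    simp only [List.map_cons, List.cons_append, List.prod_cons] at h ⊢
    obtain ⟨h1, h2⟩ := fin_and_chi_pow_list l (x :: r) (fin_perm M List.perm_middle.symm h)
    have h1' := fin_perm M List.perm_middle h1
    obtain ⟨h3, h4⟩ := fin_and_chi_pow x (koszulOn (sgl M) ((l.map fun p => p.1 ^ p.2) ++ r))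
      (bdd_koszulOn M _) h1' m
    refine ⟨h3, ?_⟩
    show chi (smulCone (x ^ m) _) = _
    have p1 : chi (koszulOn (sgl M) (x :: ((l.map fun p => p.1 ^ p.2) ++ r))) =
        chi (koszulOn (sgl M) ((l.map fun p => p.1 ^ p.2) ++ x :: r)) :=
      chi_perm M List.perm_middle.symm
    have p2 : chi (koszulOn (sgl M) (x :: (l.map Prod.fst ++ r))) =
        chi (koszulOn (sgl M) (l.map Prod.fst ++ x :: r)) := chi_perm M List.perm_middle.symm
    rw [h4, p2]
    show (m : ℤ) * chi (koszulOn (sgl M) (x :: ((l.map fun p => p.1 ^ p.2) ++ r))) = _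
    rw [p1, h2]
    ring

omit [IsNoetherianRing A] [Module.Finite A M] in
/-- On a module in degree zero, multiplication by a scalar killing `M` gives `χ = 0`. -/
theorem chi_cons_eq_zero_of_annihilator {f : A} (hf : f ∈ Module.annihilator A M) (l : List A)
    (h : Fin' (koszulOn (sgl M) (f :: l))) : chi (koszulOn (sgl M) (f :: l)) = 0 :=
  chi_smulCone_eq_zero f _ (bdd_koszulOn M l) h fun i z =>
    let ⟨H⟩ := annihilator_le_nullIdeal M l hf
    Null.smul_homology_eq_zero H i z

omit [IsNoetherianRing A] [Module.Finite A M] in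
theorem chi_nil : chi (koszulOn (sgl M) []) = len A M := by
  rw [chi, finsum_eq_single _ 0 fun i hi => by
    have := ModuleCat.isZero_iff_subsingleton.1 (isZero_sgl_homology M i hi)
    exact mul_eq_zero_of_right _ (len_subsingleton ((sgl M).homology i))]
  show sg 0 * len A ((sgl M).homology 0) = _
  rw [len_congr (sglHomologyEquiv M)]
  simp [sg]

omit [IsNoetherianRing A] [Module.Finite A M] in
/-- A regular head can be divided out. -/
theorem chi_cons_regular {f : A} (hf : IsSMulRegular M f) (l : List A) :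
    chi (koszulOn (sgl M) (f :: l)) =
      chi (koszulOn (sgl (ModuleCat.of A (QuotSMulTop f M))) l) :=
  have := quasiIso_coneToQuot M f hf
  chi_congr fun i => (HomologicalComplex.homologyFunctor _ _ i).mapIso (innerIso (sgl M) f l) ≪≫
    homologyIsoOfQuasiIso (coneToQuot M f) l i

section SES

omit [IsNoetherianRing A] in
theorem smulConeMap_cmk (x : A) {C C' : CochainComplex (ModuleCat.{u} A) ℤ} (g : C ⟶ C') (i : ℤ)
    (a : C.X (i + 1)) (b : C.X i) :
    (smulConeMap x g).f i (cmk (x • 𝟙 C) i (i + 1) rfl (a, b)) =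
      cmk (x • 𝟙 C') i (i + 1) rfl (g.f (i + 1) a, g.f i b) :=
  map_cmk _ _ _ _ _ _ _ _ a b

variable {C₁ C₂ C₃ : CochainComplex (ModuleCat.{u} A) ℤ} (φ : C₁ ⟶ C₂) (ψ : C₂ ⟶ C₃)

omit [IsNoetherianRing A] in
theorem exact_koszulOnMap (hi : ∀ i, Function.Injective (φ.f i)) (hs : ∀ i, Function.Surjective (ψ.f i))
    (he : ∀ i, Function.Exact (φ.f i) (ψ.f i)) : ∀ (l : List A) (i : ℤ),
    Function.Injective ((koszulOnMap φ l).f i) ∧ Function.Surjective ((koszulOnMap ψ l).f i) ∧
      Function.Exact ((koszulOnMap φ l).f i) ((koszulOnMap ψ l).f i)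
  | [], i => ⟨hi i, hs i, he i⟩
  | f :: l, i => by
    obtain ⟨ai, as, ae⟩ := exact_koszulOnMap hi hs he l (i + 1)
    obtain ⟨bi, bs, be⟩ := exact_koszulOnMap hi hs he l i
    refine ⟨fun z z' hzz' => ?_, fun z => ?_, fun z => ?_⟩
    · obtain ⟨⟨x, y⟩, rfl⟩ := cmk_surjective (f • 𝟙 (koszulOn C₁ l)) i (i + 1) rfl z
      obtain ⟨⟨x', y'⟩, rfl⟩ := cmk_surjective (f • 𝟙 (koszulOn C₁ l)) i (i + 1) rfl z'
      replace hzz' := (smulConeMap_cmk f (koszulOnMap φ l) i x y).symm.trans
        (hzz'.trans (smulConeMap_cmk f (koszulOnMap φ l) i x' y'))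
      have e1 := congrArg (cfst _ i (i + 1) rfl) hzz'
      have e2 := congrArg (csnd _ i) hzz'
      rw [cfst_cmk, cfst_cmk] at e1
      rw [csnd_cmk, csnd_cmk] at e2
      rw [ai e1, bi e2]
    · obtain ⟨⟨x, y⟩, rfl⟩ := cmk_surjective (f • 𝟙 (koszulOn C₃ l)) i (i + 1) rfl z
      obtain ⟨x', rfl⟩ := as x
      obtain ⟨y', rfl⟩ := bs y
      exact ⟨cmk (f • 𝟙 (koszulOn C₂ l)) i (i + 1) rfl (x', y'),
        smulConeMap_cmk f (koszulOnMap ψ l) i x' y'⟩
    · obtain ⟨⟨x, y⟩, rfl⟩ := cmk_surjective (f • 𝟙 (koszulOn C₂ l)) i (i + 1) rfl z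
      constructor
      · intro h
        replace h := (smulConeMap_cmk f (koszulOnMap ψ l) i x y).symm.trans h
        have e1 : (koszulOnMap ψ l).f (i + 1) x = 0 :=
          (cfst_cmk (f • 𝟙 (koszulOn C₃ l)) i (i + 1) rfl _).symm.trans
            ((congrArg _ h).trans (map_zero (cfst (f • 𝟙 (koszulOn C₃ l)) i (i + 1) rfl)))
        have e2 : (koszulOnMap ψ l).f i y = 0 :=
          (csnd_cmk (f • 𝟙 (koszulOn C₃ l)) i (i + 1) rfl _).symm.trans
            ((congrArg _ h).trans (map_zero (csnd (f • 𝟙 (koszulOn C₃ l)) i)))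
        obtain ⟨x', rfl⟩ := (ae _).1 e1
        obtain ⟨y', rfl⟩ := (be _).1 e2
        exact ⟨cmk (f • 𝟙 (koszulOn C₁ l)) i (i + 1) rfl (x', y'),
          smulConeMap_cmk f (koszulOnMap φ l) i x' y'⟩
      · rintro ⟨w, hw⟩
        obtain ⟨⟨x', y'⟩, rfl⟩ := cmk_surjective (f • 𝟙 (koszulOn C₁ l)) i (i + 1) rfl w
        rw [← hw]
        show (smulConeMap f (koszulOnMap ψ l)).f i ((smulConeMap f (koszulOnMap φ l)).f i _) = 0
        erw [smulConeMap_cmk f (koszulOnMap φ l) i x' y', smulConeMap_cmk f (koszulOnMap ψ l) i]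
        rw [ae.apply_apply_eq_zero, be.apply_apply_eq_zero]
        exact map_zero _

end SES

omit [IsNoetherianRing A] [Module.Finite A M] in
theorem single_f_bijective {X Y : ModuleCat.{u} A} (g : X ⟶ Y) (z : (sgl X).X 0) :
    (HomologicalComplex.singleObjXSelf (ComplexShape.up ℤ) 0 Y).toLinearEquiv
      (((HomologicalComplex.single _ (ComplexShape.up ℤ) 0).map g).f 0 z) =
    g ((HomologicalComplex.singleObjXSelf (ComplexShape.up ℤ) 0 X).toLinearEquiv z) := by
  have h : ((HomologicalComplex.single _ (ComplexShape.up ℤ) 0).map g).f 0 ≫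
      (HomologicalComplex.singleObjXSelf (ComplexShape.up ℤ) 0 Y).hom =
      (HomologicalComplex.singleObjXSelf (ComplexShape.up ℤ) 0 X).hom ≫ g := by
    simp [HomologicalComplex.single_map_f_self]
  exact congrArg (fun k => k.hom z) h

omit [Module.Finite A M] in
/-- `χ` is additive in short exact sequences of modules. -/
theorem chi_add {N₁ N₂ N₃ : Type u} [AddCommGroup N₁] [Module A N₁] [Module.Finite A N₁]
    [AddCommGroup N₂] [Module A N₂] [Module.Finite A N₂] [AddCommGroup N₃] [Module A N₃]
    [Module.Finite A N₃] (f : N₁ →ₗ[A] N₂) (g : N₂ →ₗ[A] N₃) (hf : Function.Injective f)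
    (hg : Function.Surjective g) (hfg : Function.Exact f g) (l : List A)
    (hfl : IsFiniteLength A (N₂ ⧸ (span' l • ⊤ : Submodule A N₂))) :
    chi (koszulOn (sgl (ModuleCat.of A N₂)) l) =
      chi (koszulOn (sgl (ModuleCat.of A N₁)) l) + chi (koszulOn (sgl (ModuleCat.of A N₃)) l) := by
  let F := koszulOnMap ((HomologicalComplex.single _ (ComplexShape.up ℤ) 0).map (ModuleCat.ofHom f)) l
  let G := koszulOnMap ((HomologicalComplex.single _ (ComplexShape.up ℤ) 0).map (ModuleCat.ofHom g)) l
  have h0 : ∀ (X : ModuleCat.{u} A) (i : ℤ), i ≠ 0 → Subsingleton ((sgl X).X i) := fun X i hi =>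
    ModuleCat.isZero_iff_subsingleton.1
      (HomologicalComplex.isZero_single_obj_X (ComplexShape.up ℤ) 0 X i hi)
  have key : ∀ i, Function.Injective (F.f i) ∧ Function.Surjective (G.f i) ∧
      Function.Exact (F.f i) (G.f i) := by
    refine exact_koszulOnMap _ _ (fun i => ?_) (fun i => ?_) (fun i => ?_) l
    · rcases eq_or_ne i 0 with rfl | hi
      · intro a b hab
        apply (HomologicalComplex.singleObjXSelf _ 0 _).toLinearEquiv.injective
        apply hf
        exact (single_f_bijective (ModuleCat.ofHom f) a).symm.trans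
          ((congrArg _ hab).trans (single_f_bijective (ModuleCat.ofHom f) b))
      · have := h0 (ModuleCat.of A N₁) i hi
        exact Function.injective_of_subsingleton _
    · rcases eq_or_ne i 0 with rfl | hi
      · intro z
        obtain ⟨m, hm⟩ := hg ((HomologicalComplex.singleObjXSelf _ 0 _).toLinearEquiv z)
        refine ⟨(HomologicalComplex.singleObjXSelf _ 0 _).toLinearEquiv.symm m,
          (HomologicalComplex.singleObjXSelf _ 0 _).toLinearEquiv.injective ?_⟩
        rw [single_f_bijective, LinearEquiv.apply_symm_apply]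
        exact hm
      · have := h0 (ModuleCat.of A N₃) i hi
        exact fun z => ⟨0, Subsingleton.elim _ _⟩
    · rcases eq_or_ne i 0 with rfl | hi
      · intro z
        constructor
        · intro h
          have h' := (single_f_bijective (ModuleCat.ofHom g) z).symm.trans (by rw [h, map_zero])
          obtain ⟨m, hm⟩ := (hfg _).1 h'
          refine ⟨(HomologicalComplex.singleObjXSelf _ 0 _).toLinearEquiv.symm m,
            (HomologicalComplex.singleObjXSelf _ 0 _).toLinearEquiv.injective ?_⟩
          rw [single_f_bijective, LinearEquiv.apply_symm_apply]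
          exact hm
        · rintro ⟨w, rfl⟩
          apply (HomologicalComplex.singleObjXSelf _ 0 _).toLinearEquiv.injective
          rw [map_zero, single_f_bijective, single_f_bijective]
          exact hfg.apply_apply_eq_zero _
      · have := h0 (ModuleCat.of A N₂) i hi
        have := h0 (ModuleCat.of A N₃) i hi
        exact fun z => ⟨fun _ => ⟨0, Subsingleton.elim _ _⟩, fun _ => Subsingleton.elim _ _⟩
  have w : F ≫ G = 0 := by
    ext i z
    exact (key i).2.2.apply_apply_eq_zero z
  have hS : (ShortComplex.mk F G w).ShortExact :=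
    HomologicalComplex.shortExact_of_degreewise_shortExact _ fun i =>
      ModuleCat.shortComplex_shortExact _ (key i).2.2 (key i).1 (key i).2.1
  exact (chi_of_shortExact hS (bdd_koszulOn _ l) (bdd_koszulOn _ l)
    (fin_koszulOn _ l (isFiniteLength_quot_mono hfl (Module.support_subset_of_injective f hf)))
    (fin_koszulOn _ l (isFiniteLength_quot_mono hfl (Module.support_subset_of_surjective g hg)))).2

end Groth.Agent.Lib.Koszul.Euler
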