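import Groth.Agent.Lib.Koszul.Serre

/-!
# Bounds on lengths of Koszul homology of powers
-/

universe u

open CategoryTheory CategoryTheory.Limits CochainComplex
open scoped Pointwise

namespace Groth.Agent.Lib.Koszul.Bounds

open Groth.Agent.Lib.Koszul.SmulCone Groth.Agent.Lib.Koszul.Basic Groth.Agent.Lib.Koszul.Euler

variable {A : Type u} [CommRing A]

/-- Koszul complexes preserve short exact sequences of modules. -/
theorem exists_shortExact {N₁ N₂ N₃ : Type u} [AddCommGroup N₁] [Module A N₁]
    [AddCommGroup N₂] [Module A N₂] [AddCommGroup N₃] [Module A N₃] (f : N₁ →ₗ[A] N₂)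
    (g : N₂ →ₗ[A] N₃) (hf : Function.Injective f) (hg : Function.Surjective g)
    (hfg : Function.Exact f g) (l : List A) :
    ∃ w, (ShortComplex.mk
      (koszulOnMap ((HomologicalComplex.single _ (ComplexShape.up ℤ) 0).map (ModuleCat.ofHom f)) l)
      (koszulOnMap ((HomologicalComplex.single _ (ComplexShape.up ℤ) 0).map (ModuleCat.ofHom g)) l)
      w).ShortExact := by
  have h0 : ∀ (X : ModuleCat.{u} A) (i : ℤ), i ≠ 0 → Subsingleton ((sgl X).X i) := fun X i hi =>
    ModuleCat.isZero_iff_subsingleton.1
      (HomologicalComplex.isZero_single_obj_X (ComplexShape.up ℤ) 0 X i hi)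
  have key : ∀ i, Function.Injective
        ((koszulOnMap ((HomologicalComplex.single _ (ComplexShape.up ℤ) 0).map (ModuleCat.ofHom f)) l).f i) ∧
      Function.Surjective
        ((koszulOnMap ((HomologicalComplex.single _ (ComplexShape.up ℤ) 0).map (ModuleCat.ofHom g)) l).f i) ∧
      Function.Exact
        ((koszulOnMap ((HomologicalComplex.single _ (ComplexShape.up ℤ) 0).map (ModuleCat.ofHom f)) l).f i)
        ((koszulOnMap ((HomologicalComplex.single _ (ComplexShape.up ℤ) 0).map (ModuleCat.ofHom g)) l).f i) := by
    refine exact_koszulOnMap _ _ (fun i => ?_) (fun i => ?_) (fun i => ?_) l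
    · rcases eq_or_ne i 0 with rfl | hi
      · intro a b hab
        apply (HomologicalComplex.singleObjXSelf _ 0 _).toLinearEquiv.injective
        apply hf
        exact (single_f_bijective (ModuleCat.ofHom f) a).symm.trans
          ((congrArg _ hab).trans (single_f_bijective (ModuleCat.ofHom f) b))
      · have := h0 (ModuleCat.of A N₁) i hi
        exact Function.injective_of_subsingleton _
    · rcases eq_or_ne i 0 with rfl | hi
      · intro z
        obtain ⟨m, hm⟩ := hg ((HomologicalComplex.singleObjXSelf _ 0 _).toLinearEquiv z)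
        refine ⟨(HomologicalComplex.singleObjXSelf _ 0 _).toLinearEquiv.symm m,
          (HomologicalComplex.singleObjXSelf _ 0 _).toLinearEquiv.injective ?_⟩
        rw [single_f_bijective, LinearEquiv.apply_symm_apply]
        exact hm
      · have := h0 (ModuleCat.of A N₃) i hi
        exact fun z => ⟨0, Subsingleton.elim _ _⟩
    · rcases eq_or_ne i 0 with rfl | hi
      · intro z
        constructor
        · intro h
          have h' := (single_f_bijective (ModuleCat.ofHom g) z).symm.trans (by rw [h, map_zero])
          obtain ⟨m, hm⟩ := (hfg _).1 h'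
          refine ⟨(HomologicalComplex.singleObjXSelf _ 0 _).toLinearEquiv.symm m,
            (HomologicalComplex.singleObjXSelf _ 0 _).toLinearEquiv.injective ?_⟩
          rw [single_f_bijective, LinearEquiv.apply_symm_apply]
          exact hm
        · rintro ⟨w, rfl⟩
          apply (HomologicalComplex.singleObjXSelf _ 0 _).toLinearEquiv.injective
          rw [map_zero, single_f_bijective, single_f_bijective]
          exact hfg.apply_apply_eq_zero _
      · have := h0 (ModuleCat.of A N₂) i hi
        have := h0 (ModuleCat.of A N₃) i hi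
        exact fun z => ⟨fun _ => ⟨0, Subsingleton.elim _ _⟩, fun _ => Subsingleton.elim _ _⟩
  refine ⟨?_, HomologicalComplex.shortExact_of_degreewise_shortExact _ fun i =>
    ModuleCat.shortComplex_shortExact _ (key i).2.2 (key i).1 (key i).2.1⟩
  ext i z
  exact (key i).2.2.apply_apply_eq_zero z

/-- Length of a Koszul homology module. -/
noncomputable def hlen (N : Type u) [AddCommGroup N] [Module A N] (l : List A) (j : ℤ) : ℕ∞ :=
  Module.length A ((koszulOn (sgl (ModuleCat.of A N)) l).homology j)

theorem hlen_add_le {N₁ N₂ N₃ : Type u} [AddCommGroup N₁] [Module A N₁]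
    [AddCommGroup N₂] [Module A N₂] [AddCommGroup N₃] [Module A N₃] (f : N₁ →ₗ[A] N₂)
    (g : N₂ →ₗ[A] N₃) (hf : Function.Injective f) (hg : Function.Surjective g)
    (hfg : Function.Exact f g) (l : List A) (j : ℤ) :
    hlen N₂ l j ≤ hlen N₁ l j + hlen N₃ l j := by
  obtain ⟨w, hS⟩ := exists_shortExact f g hf hg hfg l
  have h := CycAlg.Per.length_split
    ((ShortComplex.ShortExact.moduleCat_exact_iff_function_exact _).1 (hS.homology_exact₂ j))
  simp only [hlen]
  rw [h]
  gcongr
  · exact Module.length_le_of_surjective _ (LinearMap.surjective_rangeRestrict _)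
  · exact Module.length_le_of_injective _ (Submodule.injective_subtype _)

theorem hlen_congr {N N' : Type u} [AddCommGroup N] [Module A N] [AddCommGroup N'] [Module A N']
    (e : N ≃ₗ[A] N') (l : List A) (j : ℤ) : hlen N l j = hlen N' l j :=
  ((HomologicalComplex.homologyFunctor _ _ j).mapIso
    (Tensor.tensorCxIso.go l ((HomologicalComplex.single _ _ 0).mapIso e.toModuleIso))).toLinearEquiv.length_eq

/-- A crude bound. -/
theorem hlen_le_two_pow (N : Type u) [AddCommGroup N] [Module A N] :
    ∀ (l : List A) (j : ℤ), hlen N l j ≤ (2 ^ l.length : ℕ) * Module.length A N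
  | [], j => by
    simp only [hlen, List.length_nil, pow_zero, Nat.cast_one, one_mul]
    rcases eq_or_ne j 0 with rfl | hj
    · exact ((sglHomologyEquiv (ModuleCat.of A N)).length_eq).le
    · have := ModuleCat.isZero_iff_subsingleton.1 (isZero_sgl_homology (ModuleCat.of A N) j hj)
      show Module.length A ((sgl (ModuleCat.of A N)).homology j) ≤ _
      rw [Module.length_eq_zero]
      exact zero_le
  | f :: l, j => by
    show Module.length A ((smulCone f (koszulOn (sgl (ModuleCat.of A N)) l)).homology j) ≤ _
    rw [Chi.length_smulCone]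
    calc _ ≤ hlen N l j + hlen N l (j + 1) := add_le_add
          (Module.length_le_of_surjective _ (Submodule.mkQ_surjective _))
          (Module.length_le_of_injective _ (Submodule.injective_subtype _))
      _ ≤ (2 ^ l.length : ℕ) * Module.length A N + (2 ^ l.length : ℕ) * Module.length A N :=
          add_le_add (hlen_le_two_pow N l j) (hlen_le_two_pow N l (j + 1))
      _ = _ := by
          rw [List.length_cons, pow_succ', Nat.cast_mul, mul_assoc, Nat.cast_ofNat, two_mul]

theorem hlen_perm (N : Type u) [AddCommGroup N] [Module A N] {l l' : List A} (h : l.Perm l') (j : ℤ) :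
    hlen N l j = hlen N l' j :=
  let ⟨e⟩ := Tensor.nonempty_iso_of_perm (sgl (ModuleCat.of A N)) h
  ((HomologicalComplex.homologyFunctor _ _ j).mapIso e).toLinearEquiv.length_eq

theorem hlen_cons_regular (N : Type u) [AddCommGroup N] [Module A N] {f : A} (hf : IsSMulRegular N f)
    (l : List A) (j : ℤ) : hlen N (f :: l) j = hlen (QuotSMulTop f N) l j :=
  have := quasiIso_coneToQuot (ModuleCat.of A N) f hf
  ((HomologicalComplex.homologyFunctor _ _ j).mapIso (innerIso (sgl (ModuleCat.of A N)) f l) ≪≫
    homologyIsoOfQuasiIso (coneToQuot (ModuleCat.of A N) f) l j).toLinearEquiv.length_eq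

/-- `N / x^m N` is built from `m` copies of `N / x N`. -/
theorem hlen_pow_le (N : Type u) [AddCommGroup N] [Module A N] {x : A} (hx : IsSMulRegular N x)
    (l : List A) (j : ℤ) : ∀ m : ℕ, hlen (QuotSMulTop (x ^ m) N) l j ≤ m * hlen (QuotSMulTop x N) l j
  | 0 => by
    have : Subsingleton (QuotSMulTop (x ^ 0) N) :=
      Submodule.Quotient.subsingleton_iff.2 (by rw [pow_zero, one_smul])
    refine le_trans (hlen_le_two_pow (QuotSMulTop (x ^ 0) N) l j) ?_
    rw [Module.length_eq_zero, mul_zero]
    exact zero_le
  | m + 1 => by
    let f : QuotSMulTop x N →ₗ[A] QuotSMulTop (x ^ (m + 1)) N :=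
      Submodule.mapQ _ _ (LinearMap.lsmul A N (x ^ m)) fun z hz => by
        obtain ⟨y, -, rfl⟩ := (Submodule.mem_smul_pointwise_iff_exists _ _ _).1 hz
        exact (Submodule.mem_smul_pointwise_iff_exists _ _ _).2 ⟨y, trivial, by
          rw [pow_succ, mul_smul]; rfl⟩
    let g : QuotSMulTop (x ^ (m + 1)) N →ₗ[A] QuotSMulTop (x ^ m) N :=
      Submodule.mapQ _ _ LinearMap.id fun z hz => by
        obtain ⟨y, -, rfl⟩ := (Submodule.mem_smul_pointwise_iff_exists _ _ _).1 hz
        exact (Submodule.mem_smul_pointwise_iff_exists _ _ _).2 ⟨x • y, trivial, by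
          rw [pow_succ, mul_smul]⟩
    have hxm : IsSMulRegular N (x ^ m) := hx.pow m
    have hf : Function.Injective f := by
      rw [injective_iff_map_eq_zero]
      intro z hz
      obtain ⟨z, rfl⟩ := Submodule.Quotient.mk_surjective _ z
      obtain ⟨y, -, hy⟩ := (Submodule.mem_smul_pointwise_iff_exists _ _ _).1
        ((Submodule.Quotient.mk_eq_zero _).1 hz)
      refine (Submodule.Quotient.mk_eq_zero _).2
        ((Submodule.mem_smul_pointwise_iff_exists _ _ _).2 ⟨y, trivial, hxm ?_⟩)
      show x ^ m • x • y = x ^ m • z
      rw [← mul_smul, ← pow_succ]; exact hy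
    have hg : Function.Surjective g := fun z => by
      obtain ⟨z, rfl⟩ := Submodule.Quotient.mk_surjective _ z
      exact ⟨Submodule.Quotient.mk z, rfl⟩
    have hfg : Function.Exact f g := fun z => by
      obtain ⟨z, rfl⟩ := Submodule.Quotient.mk_surjective _ z
      constructor
      · intro h
        obtain ⟨y, -, hy⟩ := (Submodule.mem_smul_pointwise_iff_exists _ _ _).1
          ((Submodule.Quotient.mk_eq_zero _).1 h)
        exact ⟨Submodule.Quotient.mk y, congrArg Submodule.Quotient.mk hy⟩
      · rintro ⟨w, hw⟩
        obtain ⟨y, rfl⟩ := Submodule.Quotient.mk_surjective _ w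
        rw [← hw]
        exact (Submodule.Quotient.mk_eq_zero _).2
          ((Submodule.mem_smul_pointwise_iff_exists _ _ _).2 ⟨y, trivial, rfl⟩)
    refine (hlen_add_le f g hf hg hfg l j).trans ?_
    rw [Nat.cast_add, Nat.cast_one, add_mul, one_mul, add_comm]
    exact add_le_add (hlen_pow_le N hx l j m) le_rfl

variable [IsNoetherianRing A] [IsLocalRing A]

/-- The bound. -/
theorem exists_bound : ∀ (k : ℕ) (l : List A), l.length = k →
    (∀ a ∈ l, a ∈ IsLocalRing.maximalIdeal A) →
    ∀ (N : Type u) [AddCommGroup N] [Module A N], Module.Finite A N →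
      IsFiniteLength A (N ⧸ (span' l • ⊤ : Submodule A N)) → ∀ (j : ℤ) (e : ℕ),
      ((k : ℤ) + j ≤ e ∨ Module.supportDim A N ≤ (e : WithBot ℕ∞)) →
      ∃ c : ℕ, ∀ n : ℕ, 0 < n → hlen N (l.map (· ^ n)) j ≤ ((c * n ^ e : ℕ) : ℕ∞) := by
  intro k
  induction k with
  | zero =>
    intro l hl _ N _ _ _ hfl j e _
    rw [List.length_eq_zero_iff] at hl
    subst hl
    have hN : IsFiniteLength A N := LinearEquiv.isFiniteLength
      (Submodule.quotEquivOfEqBot _ (by simp [span'])) hfl
    obtain ⟨c, hc⟩ := ENat.ne_top_iff_exists.1 (Module.length_ne_top_iff.2 hN)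
    refine ⟨c, fun n hn => (hlen_le_two_pow N [] j).trans ?_⟩
    rw [← hc]
    simp only [List.length_nil, pow_zero, Nat.cast_one, one_mul]
    exact_mod_cast Nat.le_mul_of_pos_right c (pow_pos hn e)
  | succ k ih =>
    intro l hlen' hm N _ _ hN
    induction hN using IsNoetherianRing.induction_on_isQuotientEquivQuotientPrime A with
    | subsingleton N =>
      intro _ j e _
      refine ⟨0, fun n _ => (hlen_le_two_pow N _ j).trans ?_⟩
      rw [Module.length_eq_zero, mul_zero]
      exact zero_le
    | exact N₁ N₂ N₃ f g hf hg hfg h₁ h₃ =>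
      intro hfl j e he
      obtain ⟨c1, hc1⟩ := h₁
        (isFiniteLength_quot_mono hfl (Module.support_subset_of_injective f hf)) j e
        (he.imp_right ((Module.supportDim_le_of_injective f hf).trans))
      obtain ⟨c3, hc3⟩ := h₃
        (isFiniteLength_quot_mono hfl (Module.support_subset_of_surjective g hg)) j e
        (he.imp_right ((Module.supportDim_le_of_surjective g hg).trans))
      refine ⟨c1 + c3, fun n hn => (hlen_add_le f g hf hg hfg _ j).trans ?_⟩
      refine (add_le_add (hc1 n hn) (hc3 n hn)).trans (le_of_eq ?_)
      rw [← Nat.cast_add, add_mul]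
    | quotient N p φ =>
      intro hfl j e he
      have hnt : Nontrivial N :=
        have := Ideal.Quotient.nontrivial_iff.2 p.2.ne_top
        φ.toEquiv.nontrivial
      by_cases hall : ∀ a ∈ l, a ∈ p.asIdeal
      · have hkill : ∀ a ∈ p.asIdeal, a ∈ Module.annihilator A N := fun a ha =>
          Module.mem_annihilator.2 fun m => φ.injective (by
            rw [map_smul, map_zero]
            obtain ⟨b, hb⟩ := Ideal.Quotient.mk_surjective (φ m)
            rw [← hb, Algebra.smul_def, Ideal.Quotient.algebraMap_eq, Ideal.Quotient.eq_zero_iff_mem.2 ha,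
              zero_mul])
        have hbot : (span' l • ⊤ : Submodule A N) = ⊥ := by
          rw [eq_bot_iff, Submodule.smul_le]
          intro b hb m _
          exact (Submodule.mem_bot A).2 (Module.mem_annihilator.1
            ((Ideal.span_le.2 fun c hc => hkill c (hall c hc) :
              span' l ≤ Module.annihilator A N) hb) m)
        have hN' : IsFiniteLength A N :=
          LinearEquiv.isFiniteLength (Submodule.quotEquivOfEqBot _ hbot) hfl
        obtain ⟨c, hc⟩ := ENat.ne_top_iff_exists.1 (Module.length_ne_top_iff.2 hN')
        refine ⟨2 ^ (k + 1) * c, fun n hn => (hlen_le_two_pow N _ j).trans ?_⟩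
        rw [← hc, List.length_map, hlen', ← Nat.cast_mul]
        exact_mod_cast Nat.le_mul_of_pos_right _ (pow_pos hn e)
      · push Not at hall
        obtain ⟨a, hal, hap⟩ := hall
        classical
        obtain ⟨r, hr⟩ : ∃ r, l.Perm (a :: r) := ⟨_, List.perm_cons_erase hal⟩
        have hreg : IsSMulRegular N a := fun x y hxy => φ.injective (by
          have e := congrArg φ hxy
          simp only [map_smul] at e
          obtain ⟨b, hb⟩ := Ideal.Quotient.mk_surjective (φ x)
          obtain ⟨c, hc⟩ := Ideal.Quotient.mk_surjective (φ y)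
          rw [← hb, ← hc, Ideal.Quotient.eq]
          rw [← hb, ← hc] at e
          refine (p.2.mem_or_mem (show a * (b - c) ∈ p.asIdeal from ?_)).resolve_left hap
          rw [mul_sub, ← Ideal.Quotient.eq]
          exact e)
        have hrlen : r.length = k := by
          have := hr.length_eq
          rw [hlen', List.length_cons] at this
          omega
        have hmr : ∀ b ∈ r, b ∈ IsLocalRing.maximalIdeal A := fun b hb =>
          hm b (hr.mem_iff.2 (List.mem_cons_of_mem _ hb))
        have hfl' : IsFiniteLength A
            (QuotSMulTop a N ⧸ (span' r • ⊤ : Submodule A (QuotSMulTop a N))) := by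
          refine isFiniteLength_quot hfl fun q hq hJ => ?_
          rw [Module.support_quotSMulTop] at hq
          refine ⟨hq.1, Ideal.span_le.2 fun b hb => ?_⟩
          rcases List.mem_cons.1 (hr.mem_iff.1 hb) with rfl | hb'
          · exact hq.2 (Set.mem_singleton _)
          · exact hJ (Ideal.subset_span hb')
        have hred : ∀ n : ℕ, hlen N (l.map (· ^ n)) j ≤
            (n : ℕ∞) * hlen (QuotSMulTop a N) (r.map (· ^ n)) j := fun n => by
          rw [hlen_perm N (hr.map _), List.map_cons, hlen_cons_regular N (hreg.pow n)]
          exact hlen_pow_le N hreg _ j n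
        by_cases hlow : (k : ℤ) + j < 0
        · refine ⟨0, fun n _ => (hred n).trans ?_⟩
          have := ModuleCat.isZero_iff_subsingleton.1
            (isZero_of_lt (ModuleCat.of A (QuotSMulTop a N)) (r.map (· ^ n)) j
              (by rw [List.length_map, hrlen]; omega))
          rw [hlen, Module.length_eq_zero, mul_zero]
          exact zero_le
        have hd := Module.supportDim_quotSMulTop_succ_eq_supportDim hreg (hm a hal)
        obtain ⟨e', rfl⟩ : ∃ e', e = e' + 1 := by
          refine Nat.exists_eq_succ_of_ne_zero ?_
          rintro rfl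
          rcases he with he | he
          · push_cast at he; omega
          · have hsub : Subsingleton (QuotSMulTop a N) := by
              rw [← Module.supportDim_eq_bot_iff_subsingleton A]
              induction hb : Module.supportDim A (QuotSMulTop a N) using WithBot.recBotCoe with
              | bot => rfl
              | coe b =>
                rw [hb] at hd
                rw [← hd] at he
                induction b using ENat.recTopCoe with
                | top =>
                  rw [show ((⊤ : ℕ∞) : WithBot ℕ∞) + 1 = ((⊤ : ℕ∞) : WithBot ℕ∞) from rfl] at he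
                  exact absurd (top_le_iff.1 (WithBot.coe_le_coe.1 he)) (ENat.natCast_ne_top 0)
                | coe b => norm_cast at he
            rw [Submodule.Quotient.subsingleton_iff] at hsub
            exact Submodule.top_ne_pointwise_smul_of_mem_jacobson_annihilator
              ((IsLocalRing.maximalIdeal_le_jacobson _) (hm a hal)) hsub.symm
        obtain ⟨c, hc⟩ := ih r hrlen hmr (QuotSMulTop a N) inferInstance hfl' j e' (by
          rcases he with he | he
          · exact Or.inl (by push_cast at he; omega)
          · refine Or.inr ?_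
            rw [← hd] at he
            induction hb : Module.supportDim A (QuotSMulTop a N) using WithBot.recBotCoe with
            | bot => exact bot_le
            | coe b =>
              rw [hb] at he
              induction b using ENat.recTopCoe with
              | top =>
                rw [show ((⊤ : ℕ∞) : WithBot ℕ∞) + 1 = ((⊤ : ℕ∞) : WithBot ℕ∞) from rfl] at he
                exact absurd (top_le_iff.1 (WithBot.coe_le_coe.1 he)) (ENat.natCast_ne_top (e' + 1))
              | coe b => norm_cast at he ⊢; omega)
        refine ⟨c, fun n hn => (hred n).trans ?_⟩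
        refine (mul_le_mul' le_rfl (hc n hn)).trans (le_of_eq ?_)
        rw [← Nat.cast_mul]
        congr 1
        ring

end Groth.Agent.Lib.Koszul.Bounds
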