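import Groth.Agent.Lib.Koszul.SmulCone
import Groth.Agent.Lib.CycAlg.Per
import Mathlib.Algebra.BigOperators.Finprod
import Mathlib.Algebra.Homology.HomologySequence
import Mathlib.Algebra.Ring.NegOnePow
import Mathlib.Algebra.Homology.ShortComplex.ModuleCat
import Mathlib.Tactic.Ring

/-!
# Euler characteristics of complexes with homology of finite length
-/

universe u v

open CategoryTheory CategoryTheory.Limits CochainComplex
open scoped Pointwise

namespace Groth.Agent.Lib.Koszul.Chi

open Groth.Agent.Lib.Koszul.Cone Groth.Agent.Lib.Koszul.SmulCone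

variable {A : Type u} [CommRing A]

/-- `(-1)^i` -/
abbrev sg (i : ℤ) : ℤ := ((i.negOnePow : ℤˣ) : ℤ)

theorem sg_succ (i : ℤ) : sg (i + 1) = -sg i := by simp [sg, Int.negOnePow_succ]

/-- integer valued length -/
noncomputable def len (A : Type u) [CommRing A] (N : Type v) [AddCommGroup N] [Module A N] : ℤ :=
  (Module.length A N).toNat

theorem len_subsingleton (N : Type v) [AddCommGroup N] [Module A N] [Subsingleton N] :
    len A N = 0 := by simp [len, Module.length_eq_zero]

theorem len_congr {N N' : Type v} [AddCommGroup N] [Module A N] [AddCommGroup N'] [Module A N']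
    (e : N ≃ₗ[A] N') : len A N = len A N' := by rw [len, len, e.length_eq]

/-- The Euler characteristic. -/
noncomputable def chi (C : CochainComplex (ModuleCat.{v} A) ℤ) : ℤ :=
  ∑ᶠ i : ℤ, sg i * len A (C.homology i)

/-- Finitely many nonzero homology modules. -/
def Bdd (C : CochainComplex (ModuleCat.{v} A) ℤ) : Prop :=
  ∃ s : Finset ℤ, ∀ i ∉ s, IsZero (C.homology i)

/-- All homology modules of finite length. -/
def Fin' (C : CochainComplex (ModuleCat.{v} A) ℤ) : Prop :=
  ∀ i, Module.length A (C.homology i) < ⊤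

theorem chi_congr {C C' : CochainComplex (ModuleCat.{v} A) ℤ}
    (e : ∀ i, C.homology i ≅ C'.homology i) : chi C = chi C' :=
  finsum_congr fun i => by rw [len_congr (e i).toLinearEquiv]

theorem fin_congr {C C' : CochainComplex (ModuleCat.{v} A) ℤ}
    (e : ∀ i, C.homology i ≅ C'.homology i) (h : Fin' C) : Fin' C' := fun i => by
  rw [← (e i).toLinearEquiv.length_eq]; exact h i

theorem bdd_congr {C C' : CochainComplex (ModuleCat.{v} A) ℤ}
    (e : ∀ i, C.homology i ≅ C'.homology i) (h : Bdd C) : Bdd C' :=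
  let ⟨s, hs⟩ := h; ⟨s, fun i hi => (hs i hi).of_iso (e i).symm⟩

theorem hasFiniteSupport_of_bdd (N : ℤ → Type v) [∀ i, AddCommGroup (N i)] [∀ i, Module A (N i)]
    (s : Finset ℤ) (h : ∀ i ∉ s, Subsingleton (N i)) :
    (fun i => sg i * len A (N i)).HasFiniteSupport := by
  refine (s.finite_toSet).subset fun i hi => ?_
  by_contra hs
  have := h i hs
  exact hi (by simp [len_subsingleton])

/-- Euler characteristics are additive in short exact sequences. -/
theorem chi_of_shortExact {S : ShortComplex (CochainComplex (ModuleCat.{v} A) ℤ)}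
    (hS : S.ShortExact) (hb₁ : Bdd S.X₁) (hb₃ : Bdd S.X₃) (h₁ : Fin' S.X₁) (h₃ : Fin' S.X₃) :
    Fin' S.X₂ ∧ chi S.X₂ = chi S.X₁ + chi S.X₃ := by
  let F := fun i => (HomologicalComplex.homologyMap S.f i).hom
  let G := fun i => (HomologicalComplex.homologyMap S.g i).hom
  let D := fun i => (hS.δ i (i + 1) (by simp)).hom
  have e2 : ∀ i, Function.Exact (F i) (G i) := fun i =>
    (ShortComplex.ShortExact.moduleCat_exact_iff_function_exact _).1 (hS.homology_exact₂ i)
  have e3 : ∀ i, Function.Exact (G i) (D i) := fun i =>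
    (ShortComplex.ShortExact.moduleCat_exact_iff_function_exact _).1
      (hS.homology_exact₃ i (i + 1) (by simp))
  have e1 : ∀ i, Function.Exact (D i) (F (i + 1)) := fun i =>
    (ShortComplex.ShortExact.moduleCat_exact_iff_function_exact _).1
      (hS.homology_exact₁ i (i + 1) (by simp))
  have l1 := fun i => CycAlg.Per.length_split (e1 i)
  have l2 := fun i => CycAlg.Per.length_split (e2 i)
  have l3 := fun i => CycAlg.Per.length_split (e3 i)
  have fr : ∀ i, Module.length A (LinearMap.range (F i)) < ⊤ := fun i =>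
    (Module.length_le_of_surjective _ (F i).surjective_rangeRestrict).trans_lt (h₁ i)
  have fs : ∀ i, Module.length A (LinearMap.range (G i)) < ⊤ := fun i =>
    (Module.length_le_of_injective _ (LinearMap.range (G i)).injective_subtype).trans_lt (h₃ i)
  have ft : ∀ i, Module.length A (LinearMap.range (D i)) < ⊤ := fun i =>
    (Module.length_le_of_surjective _ (D i).surjective_rangeRestrict).trans_lt (h₃ i)
  refine ⟨fun i => by rw [l2]; exact ENat.add_lt_top.2 ⟨fr i, fs i⟩, ?_⟩
  obtain ⟨s₁, hs₁⟩ := hb₁
  obtain ⟨s₃, hs₃⟩ := hb₃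
  simp only [ModuleCat.isZero_iff_subsingleton] at hs₁ hs₃
  have hR : (fun i => sg i * len A (LinearMap.range (F i))).HasFiniteSupport :=
    hasFiniteSupport_of_bdd (fun i => LinearMap.range (F i)) s₁ fun i hi => by
      have := hs₁ i hi
      exact (F i).surjective_rangeRestrict.subsingleton
  have hT : (fun i => sg i * len A (LinearMap.range (D i))).HasFiniteSupport :=
    hasFiniteSupport_of_bdd (fun i => LinearMap.range (D i)) s₃ fun i hi => by
      have := hs₃ i hi
      exact (D i).surjective_rangeRestrict.subsingleton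
  have hG : (fun i => sg i * len A (LinearMap.range (G i))).HasFiniteSupport :=
    hasFiniteSupport_of_bdd (fun i => LinearMap.range (G i)) s₃ fun i hi => by
      have := hs₃ i hi
      exact Subtype.val_injective.subsingleton
  have c2 : chi S.X₂ = (∑ᶠ i, sg i * len A (LinearMap.range (F i))) +
      ∑ᶠ i, sg i * len A (LinearMap.range (G i)) := by
    rw [← finsum_add_distrib hR hG]
    refine finsum_congr fun i => ?_
    simp only [len, l2 i, CycAlg.Per.toNat_add (fr i) (fs i)]
    push_cast; ring
  have c3 : chi S.X₃ = (∑ᶠ i, sg i * len A (LinearMap.range (G i))) +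
      ∑ᶠ i, sg i * len A (LinearMap.range (D i)) := by
    rw [← finsum_add_distrib hG hT]
    refine finsum_congr fun i => ?_
    simp only [len, l3 i, CycAlg.Per.toNat_add (fs i) (ft i)]
    push_cast; ring
  have hR' : (fun i => sg (i + 1) * len A (LinearMap.range (F (i + 1)))).HasFiniteSupport :=
    hR.preimage (fun a _ b _ h => add_right_cancel h)
  have hT' : (fun i => -(sg i * len A (LinearMap.range (D i)))).HasFiniteSupport := hT.subset (by simp)
  have c1 : chi S.X₁ = (∑ᶠ i, sg i * len A (LinearMap.range (F i))) -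
      ∑ᶠ i, sg i * len A (LinearMap.range (D i)) := by
    calc chi S.X₁ = ∑ᶠ i, sg (i + 1) * len A (S.X₁.homology (i + 1)) :=
          (finsum_comp_equiv (Equiv.addRight (1 : ℤ))
            (f := fun i => sg i * len A (S.X₁.homology i))).symm
      _ = ∑ᶠ i, (sg (i + 1) * len A (LinearMap.range (F (i + 1))) +
            -(sg i * len A (LinearMap.range (D i)))) := by
          refine finsum_congr fun i => ?_
          simp only [len, l1 i, CycAlg.Per.toNat_add (ft i) (fr (i + 1)), sg_succ]
          push_cast; ring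
      _ = _ := by
          rw [finsum_add_distrib hR' hT', finsum_neg_distrib, sub_eq_add_neg]
          congr 1
          exact finsum_comp_equiv (Equiv.addRight (1 : ℤ))
            (f := fun i => sg i * len A (LinearMap.range (F i)))
  rw [c1, c2, c3]; ring

/-- `length coker − length ker` of multiplication by `f`. -/
noncomputable def e (f : A) (N : Type v) [AddCommGroup N] [Module A N] : ℤ :=
  len A (N ⧸ f • (⊤ : Submodule A N)) - len A (LinearMap.ker (LinearMap.lsmul A N f))

/-- kernel and cokernel of `f` have finite length -/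
def EFin (f : A) (N : Type v) [AddCommGroup N] [Module A N] : Prop :=
  Module.length A (N ⧸ f • (⊤ : Submodule A N)) < ⊤ ∧
    Module.length A (LinearMap.ker (LinearMap.lsmul A N f)) < ⊤

theorem e_eq_zero_of_forall_smul {f : A} {N : Type v} [AddCommGroup N] [Module A N]
    (h : ∀ n : N, f • n = 0) : e f N = 0 := by
  have h1 : (f • ⊤ : Submodule A N) = ⊥ := by
    rw [eq_bot_iff]
    intro n hn
    obtain ⟨m, -, rfl⟩ := (Submodule.mem_smul_pointwise_iff_exists _ _ _).1 hn
    exact (Submodule.mem_bot A).2 (h m)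
  have h2 : LinearMap.ker (LinearMap.lsmul A N f) = ⊤ := eq_top_iff.2 fun n _ => h n
  rw [e, len_congr (Submodule.quotEquivOfEqBot _ h1), h2, len_congr Submodule.topEquiv, sub_self]

theorem efin_mul_and_e_mul {f g : A} {N : Type v} [AddCommGroup N] [Module A N] (hf : EFin f N)
    (hg : EFin g N) : EFin (f * g) N ∧ e (f * g) N = e f N + e g N := by
  let Kf := LinearMap.ker (LinearMap.lsmul A N f)
  let Kg := LinearMap.ker (LinearMap.lsmul A N g)
  let Kfg := LinearMap.ker (LinearMap.lsmul A N (f * g))
  let a₁ : Kg →ₗ[A] Kfg := Submodule.inclusion fun n hn => by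
    show (f * g) • n = 0
    rw [mul_smul, show g • n = 0 from hn, smul_zero]
  let a₂ : Kfg →ₗ[A] Kf := (LinearMap.lsmul A N g ∘ₗ Kfg.subtype).codRestrict _ fun n => by
    show f • g • n.1 = 0
    rw [← mul_smul]; exact n.2
  let a₃ : Kf →ₗ[A] (N ⧸ g • (⊤ : Submodule A N)) := (Submodule.mkQ _) ∘ₗ Kf.subtype
  let a₄ : (N ⧸ g • (⊤ : Submodule A N)) →ₗ[A] (N ⧸ (f * g) • (⊤ : Submodule A N)) :=
    Submodule.mapQ _ _ (LinearMap.lsmul A N f) fun n hn => by
      obtain ⟨m, -, rfl⟩ := (Submodule.mem_smul_pointwise_iff_exists _ _ _).1 hn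
      exact (Submodule.mem_smul_pointwise_iff_exists _ _ _).2 ⟨m, trivial, mul_smul f g m⟩
  let a₅ : (N ⧸ (f * g) • (⊤ : Submodule A N)) →ₗ[A] (N ⧸ f • (⊤ : Submodule A N)) :=
    Submodule.mapQ _ _ LinearMap.id fun n hn => by
      obtain ⟨m, -, rfl⟩ := (Submodule.mem_smul_pointwise_iff_exists _ _ _).1 hn
      exact (Submodule.mem_smul_pointwise_iff_exists _ _ _).2 ⟨g • m, trivial, (mul_smul f g m).symm⟩
  let X : CycAlg.Per.Hexagon (R := A) Kg Kfg Kf (N ⧸ g • (⊤ : Submodule A N))
      (N ⧸ (f * g) • (⊤ : Submodule A N)) (N ⧸ f • (⊤ : Submodule A N)) :=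
    { f₁ := a₁, f₂ := a₂, f₃ := a₃, f₄ := a₄, f₅ := a₅, f₆ := 0
      ex₁ := fun n => ⟨fun h => ⟨0, ((Submodule.inclusion_injective _) (h.trans (map_zero a₁).symm)).symm⟩,
        fun ⟨_, h⟩ => h ▸ map_zero a₁⟩
      ex₂ := fun n => by
        constructor
        · intro h
          exact ⟨⟨n.1, congrArg Subtype.val h⟩, rfl⟩
        · rintro ⟨m, rfl⟩
          exact Subtype.ext m.2
      ex₃ := fun n => by
        constructor
        · intro h
          obtain ⟨m, -, hm⟩ := (Submodule.mem_smul_pointwise_iff_exists _ _ _).1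
            ((Submodule.Quotient.mk_eq_zero _).1 h)
          refine ⟨⟨m, ?_⟩, Subtype.ext hm⟩
          show (f * g) • m = 0
          rw [mul_smul, hm]; exact n.2
        · rintro ⟨m, rfl⟩
          exact (Submodule.Quotient.mk_eq_zero _).2
            ((Submodule.mem_smul_pointwise_iff_exists _ _ _).2 ⟨m.1, trivial, rfl⟩)
      ex₄ := fun z => by
        obtain ⟨n, rfl⟩ := Submodule.Quotient.mk_surjective _ z
        constructor
        · intro h
          obtain ⟨m, -, hm⟩ := (Submodule.mem_smul_pointwise_iff_exists _ _ _).1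
            ((Submodule.Quotient.mk_eq_zero _).1 h)
          refine ⟨⟨n - g • m, ?_⟩, (Submodule.Quotient.eq _).2
            ((Submodule.mem_smul_pointwise_iff_exists _ _ _).2 ⟨-m, trivial, ?_⟩)⟩
          · show f • (n - g • m) = 0
            rw [smul_sub, ← mul_smul]; exact sub_eq_zero.2 hm.symm
          · show g • (-m) = n - g • m - n
            rw [smul_neg]; abel
        · rintro ⟨m, hm⟩
          rw [← hm]
          show Submodule.Quotient.mk (f • m.1) = 0
          rw [show f • m.1 = 0 from m.2]
          rfl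
      ex₅ := fun z => by
        obtain ⟨n, rfl⟩ := Submodule.Quotient.mk_surjective _ z
        constructor
        · intro h
          obtain ⟨m, -, hm⟩ := (Submodule.mem_smul_pointwise_iff_exists _ _ _).1
            ((Submodule.Quotient.mk_eq_zero _).1 h)
          exact ⟨Submodule.Quotient.mk m, congrArg Submodule.Quotient.mk hm⟩
        · rintro ⟨w, hw⟩
          obtain ⟨m, rfl⟩ := Submodule.Quotient.mk_surjective _ w
          rw [← hw]
          exact (Submodule.Quotient.mk_eq_zero _).2
            ((Submodule.mem_smul_pointwise_iff_exists _ _ _).2 ⟨m, trivial, rfl⟩)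
      ex₆ := fun z => by
        obtain ⟨n, rfl⟩ := Submodule.Quotient.mk_surjective _ z
        exact ⟨fun _ => ⟨Submodule.Quotient.mk n, rfl⟩, fun _ => rfl⟩ }
  have h2 := X.lt_top hg.2 hf.2
  have h5 := X.rotate.rotate.rotate.lt_top hg.1 hf.1
  refine ⟨⟨h5, h2⟩, ?_⟩
  have := X.alternating hg.2 h2 hf.2 hg.1 h5 hf.1
  simp only [e, len, Kf, Kg, Kfg] at this ⊢
  omega

theorem efin_pow_and_e_pow {f : A} {N : Type v} [AddCommGroup N] [Module A N] (hf : EFin f N) :
    ∀ n : ℕ, EFin (f ^ n) N ∧ e (f ^ n) N = n * e f N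
  | 0 => by
    have h1 : ((f ^ 0) • ⊤ : Submodule A N) = ⊤ := by rw [pow_zero, one_smul]
    have h2 : LinearMap.ker (LinearMap.lsmul A N (f ^ 0)) = ⊥ := by
      rw [pow_zero, eq_bot_iff]; exact fun n hn => by simpa using hn
    have : Subsingleton (N ⧸ (f ^ 0) • (⊤ : Submodule A N)) :=
      Submodule.Quotient.subsingleton_iff.2 h1
    have : Subsingleton (LinearMap.ker (LinearMap.lsmul A N (f ^ 0))) := by
      rw [h2]; infer_instance
    simp [EFin, e, len, Module.length_eq_zero]
  | n + 1 => by
    obtain ⟨h1, h2⟩ := efin_pow_and_e_pow hf n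
    obtain ⟨h3, h4⟩ := efin_mul_and_e_mul h1 hf
    rw [← pow_succ] at h3 h4
    exact ⟨h3, by rw [h4, h2]; push_cast; ring⟩

variable (f : A) (C : CochainComplex (ModuleCat.{v} A) ℤ)

theorem length_smulCone (i : ℤ) :
    Module.length A ((smulCone f C).homology i) =
      Module.length A (C.homology i ⧸ f • (⊤ : Submodule A (C.homology i))) +
        Module.length A (LinearMap.ker (LinearMap.lsmul A (C.homology (i + 1)) f)) := by
  have hk : LinearMap.ker (inH f C i) = f • ⊤ := by
    ext h
    rw [LinearMap.mem_ker, inH_eq_zero_iff, Submodule.mem_smul_pointwise_iff_exists]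
    simp
  refine Module.length_eq_add_of_exact (Submodule.liftQ _ (inH f C i) hk.ge)
    ((outH f C i).codRestrict _ fun z => (range_outH f C i _).1 ⟨z, rfl⟩) ?_ ?_ ?_
  · rw [← LinearMap.ker_eq_bot, Submodule.ker_liftQ, hk, Submodule.mkQ_map_self]
  · rintro ⟨h, hh⟩
    obtain ⟨z, hz⟩ := (range_outH f C i h).2 hh
    exact ⟨z, Subtype.ext hz⟩
  · intro z
    constructor
    · intro hz
      obtain ⟨h, rfl⟩ := (exact_inH_outH f C i z).1 (congrArg Subtype.val hz)
      exact ⟨Submodule.Quotient.mk h, rfl⟩
    · rintro ⟨w, rfl⟩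
      obtain ⟨h, rfl⟩ := Submodule.Quotient.mk_surjective _ w
      exact Subtype.ext (outH_inH f C i h)

theorem fin_smulCone_iff : Fin' (smulCone f C) ↔ ∀ i, EFin f (C.homology i) := by
  constructor
  · intro h i
    have h1 := h i
    have h2 := h (i - 1)
    rw [length_smulCone, ENat.add_lt_top] at h1 h2
    have : ∀ j, j = i → Module.length A (LinearMap.ker (LinearMap.lsmul A (C.homology j) f)) < ⊤ →
        Module.length A (LinearMap.ker (LinearMap.lsmul A (C.homology i) f)) < ⊤ := by
      rintro _ rfl h; exact h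
    exact ⟨h1.1, this _ (by omega) h2.2⟩
  · intro h i
    rw [length_smulCone, ENat.add_lt_top]
    exact ⟨(h i).1, (h (i + 1)).2⟩

theorem bdd_smulCone (hb : Bdd C) : Bdd (smulCone f C) := by
  obtain ⟨s, hs⟩ := hb
  refine ⟨s ∪ s.image (fun i => i - 1), fun i hi => ?_⟩
  rw [Finset.mem_union, not_or] at hi
  exact isZero_homology_of_isZero f C i (hs i hi.1)
    (hs _ fun h => hi.2 (Finset.mem_image.2 ⟨i + 1, h, by omega⟩))

theorem chi_smulCone (hb : Bdd C) (h : Fin' (smulCone f C)) :
    chi (smulCone f C) = ∑ᶠ i : ℤ, sg i * e f (C.homology i) := by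
  obtain ⟨s, hs⟩ := hb
  simp only [ModuleCat.isZero_iff_subsingleton] at hs
  rw [fin_smulCone_iff] at h
  have hc : (fun i => sg i * len A (C.homology i ⧸ f • (⊤ : Submodule A (C.homology i)))).HasFiniteSupport :=
    hasFiniteSupport_of_bdd (fun i => C.homology i ⧸ f • (⊤ : Submodule A (C.homology i))) s
      fun i hi => by
        have := hs i hi
        exact (Submodule.mkQ_surjective _).subsingleton
  have hk : (fun i => sg i * len A (LinearMap.ker (LinearMap.lsmul A (C.homology i) f))).HasFiniteSupport :=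
    hasFiniteSupport_of_bdd (fun i => LinearMap.ker (LinearMap.lsmul A (C.homology i) f)) s
      fun i hi => by
        have := hs i hi
        exact Subtype.val_injective.subsingleton
  have hk' : (fun i => -(sg (i + 1) * len A (LinearMap.ker (LinearMap.lsmul A (C.homology (i + 1)) f)))).HasFiniteSupport :=
    (hk.preimage (f := fun i : ℤ => i + 1) (fun a _ b _ h => add_right_cancel h)).subset (by
      intro i hi; simpa using hi)
  calc chi (smulCone f C) = ∑ᶠ i, (sg i * len A (C.homology i ⧸ f • (⊤ : Submodule A (C.homology i))) +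
        -(sg (i + 1) * len A (LinearMap.ker (LinearMap.lsmul A (C.homology (i + 1)) f)))) := by
        refine finsum_congr fun i => ?_
        simp only [len, length_smulCone, CycAlg.Per.toNat_add (h i).1 (h (i + 1)).2, sg_succ]
        push_cast; ring
    _ = (∑ᶠ i, sg i * len A (C.homology i ⧸ f • (⊤ : Submodule A (C.homology i)))) +
        -∑ᶠ i, sg i * len A (LinearMap.ker (LinearMap.lsmul A (C.homology i) f)) := by
        rw [finsum_add_distrib hc hk', finsum_neg_distrib]
        congr 2
        exact finsum_comp_equiv (Equiv.addRight (1 : ℤ))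
          (f := fun i => sg i * len A (LinearMap.ker (LinearMap.lsmul A (C.homology i) f)))
    _ = _ := by
        rw [← sub_eq_add_neg, ← finsum_sub_distrib hc hk]
        exact finsum_congr fun i => by rw [e]; ring

theorem fin_and_chi_mul {g : A} (hb : Bdd C) (hf : Fin' (smulCone f C)) (hg : Fin' (smulCone g C)) :
    Fin' (smulCone (f * g) C) ∧
      chi (smulCone (f * g) C) = chi (smulCone f C) + chi (smulCone g C) := by
  have hf' := (fin_smulCone_iff f C).1 hf
  have hg' := (fin_smulCone_iff g C).1 hg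
  have h := (fin_smulCone_iff (f * g) C).2 fun i => (efin_mul_and_e_mul (hf' i) (hg' i)).1
  obtain ⟨s, hs⟩ := hb
  have hs' : ∀ a : A, (fun i => sg i * e a (C.homology i)).HasFiniteSupport := fun a =>
    s.finite_toSet.subset fun i hi => by
      by_contra his
      have := ModuleCat.isZero_iff_subsingleton.1 (hs i his)
      exact hi (by simp [e_eq_zero_of_forall_smul fun n => Subsingleton.elim _ _])
  refine ⟨h, ?_⟩
  rw [chi_smulCone _ C ⟨s, hs⟩ h, chi_smulCone _ C ⟨s, hs⟩ hf, chi_smulCone _ C ⟨s, hs⟩ hg,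
    ← finsum_add_distrib (hs' f) (hs' g)]
  exact finsum_congr fun i => by rw [(efin_mul_and_e_mul (hf' i) (hg' i)).2, mul_add]

theorem fin_and_chi_pow (hb : Bdd C) (hf : Fin' (smulCone f C)) (n : ℕ) :
    Fin' (smulCone (f ^ n) C) ∧ chi (smulCone (f ^ n) C) = n * chi (smulCone f C) := by
  have hf' := (fin_smulCone_iff f C).1 hf
  have h := (fin_smulCone_iff (f ^ n) C).2 fun i => (efin_pow_and_e_pow (hf' i) n).1
  refine ⟨h, ?_⟩
  rw [chi_smulCone _ C hb h, chi_smulCone _ C hb hf, mul_finsum]
  exact finsum_congr fun i => by rw [(efin_pow_and_e_pow (hf' i) n).2]; ring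

theorem chi_smulCone_eq_zero (hb : Bdd C) (hf : Fin' (smulCone f C))
    (h : ∀ i (z : C.homology i), f • z = 0) : chi (smulCone f C) = 0 := by
  rw [chi_smulCone f C hb hf]
  exact finsum_eq_zero_of_forall_eq_zero fun i => by rw [e_eq_zero_of_forall_smul (h i), mul_zero]

end Groth.Agent.Lib.Koszul.Chi
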