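import Groth.Agent.Lib.Koszul.SmulCone
import Mathlib.LinearAlgebra.Span.Basic
import Mathlib.Algebra.Homology.Homotopy

/-!
# Null-homotopies and the interchange isomorphism for iterated cones
-/

universe u v

open CategoryTheory CategoryTheory.Limits CochainComplex

namespace Groth.Agent.Lib.Koszul.Null

open Groth.Agent.Lib.FlatCx Groth.Agent.Lib.Koszul.Cone Groth.Agent.Lib.Koszul.SmulCone

variable {A : Type u} [CommRing A]

/-- A null-homotopy from maps of degree `-1`, on elements. -/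
noncomputable def mkNull {K : CochainComplex (ModuleCat.{v} A) ℤ} (F : K ⟶ K)
    (h : ∀ i j, j + 1 = i → (K.X i →ₗ[A] K.X j))
    (eq : ∀ i (z : K.X i), F.f i z =
      h (i + 1) i rfl (K.d i (i + 1) z) + K.d (i - 1) i (h i (i - 1) (by omega) z)) :
    Homotopy F 0 where
  hom i j := if e : j + 1 = i then ModuleCat.ofHom (h i j e) else 0
  zero i j hij := dif_neg hij
  comm i := by
    rw [dNext_eq _ (show (ComplexShape.up ℤ).Rel i (i + 1) by simp),
      prevD_eq _ (show (ComplexShape.up ℤ).Rel (i - 1) i by simp), dif_pos rfl, dif_pos (by omega),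
      HomologicalComplex.zero_f, add_zero]
    apply ModuleCat.hom_ext
    exact LinearMap.ext (eq i)

theorem homotopy_eq {K : CochainComplex (ModuleCat.{v} A) ℤ} {F : K ⟶ K} (H : Homotopy F 0) (i : ℤ)
    (z : K.X i) :
    F.f i z = H.hom (i + 1) i (K.d i (i + 1) z) + K.d (i - 1) i (H.hom i (i - 1) z) := by
  have := H.comm i
  rw [dNext_eq _ (show (ComplexShape.up ℤ).Rel i (i + 1) by simp),
      prevD_eq _ (show (ComplexShape.up ℤ).Rel (i - 1) i by simp), HomologicalComplex.zero_f,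
      add_zero] at this
  exact congrArg (fun f => f.hom z) this

variable (x : A) (C : CochainComplex (ModuleCat.{v} A) ℤ)

/-- `x` is null-homotopic on the cone of `x`. -/
noncomputable def smulSelf : Homotopy (x • 𝟙 (smulCone x C)) 0 :=
  mkNull _
    (fun i j e => (cmk (x • 𝟙 C) j i e) ∘ₗ LinearMap.inl A _ _ ∘ₗ csnd (x • 𝟙 C) i)
    (fun i z => by
      obtain ⟨⟨a, b⟩, rfl⟩ := cmk_surjective (x • 𝟙 C) i (i + 1) rfl z
      simp only [LinearMap.comp_apply, LinearMap.inl_apply, csnd_cmk]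
      rw [d_cmk _ i (i + 1) (i + 1 + 1) rfl rfl, csnd_cmk,
        d_cmk _ (i - 1) i (i + 1) (by omega) rfl, ← map_add, map_smul_id, map_smul_id, map_smul_id,
        Prod.mk_add_mk, map_zero, zero_add, add_zero, ← map_smul (cmk _ i (i + 1) rfl)]
      congr 1
      refine Prod.ext ?_ rfl
      show x • a = x • a + C.d i (i + 1) b + -C.d i (i + 1) b
      abel)

/-- A null-homotopy of `y` on `C` gives one on the cone of `x`. -/
noncomputable def smulOther (y : A) (H : Homotopy (y • 𝟙 C) 0) :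
    Homotopy (y • 𝟙 (smulCone x C)) 0 :=
  mkNull _
    (fun i j e => cmk (x • 𝟙 C) j i e ∘ₗ
      LinearMap.prod (-(H.hom (i + 1) i).hom ∘ₗ cfst (x • 𝟙 C) i (i + 1) rfl)
        ((H.hom i j).hom ∘ₗ csnd (x • 𝟙 C) i))
    (fun i z => by
      obtain ⟨⟨a, b⟩, rfl⟩ := cmk_surjective (x • 𝟙 C) i (i + 1) rfl z
      simp only [LinearMap.comp_apply, LinearMap.prod_apply, Function.prod_apply, LinearMap.neg_apply,
        cfst_cmk, csnd_cmk]
      rw [d_cmk _ i (i + 1) (i + 1 + 1) rfl rfl, csnd_cmk, cfst_cmk,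
        d_cmk _ (i - 1) i (i + 1) (by omega) rfl, ← map_add, map_smul_id,
        ← map_smul (cmk _ i (i + 1) rfl), Prod.smul_mk, Prod.mk_add_mk]
      congr 1
      have ha := homotopy_eq H (i + 1) a
      have hb := homotopy_eq H i b
      rw [map_smul_id] at ha hb
      have e : ∀ j (_ : j = i), C.d j (i + 1) (H.hom (i + 1) j a) = C.d i (i + 1) (H.hom (i + 1) i a) := by
        rintro j rfl; rfl
      rw [e _ (by omega)] at ha
      refine Prod.ext ?_ ?_
      · show y • a = -(H.hom (i + 1 + 1) (i + 1)).hom (-C.d (i + 1) (i + 1 + 1) a) +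
          -C.d i (i + 1) (-(H.hom (i + 1) i).hom a)
        rw [map_neg, map_neg, neg_neg, neg_neg]
        exact ha
      · show y • b = (H.hom (i + 1) i).hom ((x • 𝟙 C : C ⟶ C).f (i + 1) a + C.d i (i + 1) b) +
          ((x • 𝟙 C : C ⟶ C).f i (-(H.hom (i + 1) i).hom a) + C.d (i - 1) i ((H.hom i (i - 1)).hom b))
        rw [map_add, map_smul_id, map_smul_id, map_smul, smul_neg, hb]
        abel)

/-- The ideal of null-homotopic scalars. -/
def nullIdeal (K : CochainComplex (ModuleCat.{v} A) ℤ) : Ideal A where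
  carrier := {a | Nonempty (Homotopy (a • 𝟙 K) 0)}
  zero_mem' := ⟨Homotopy.ofEq (zero_smul _ _)⟩
  add_mem' := fun ⟨H⟩ ⟨H'⟩ =>
    ⟨((Homotopy.ofEq (add_smul _ _ _)).trans (H.add H')).trans (Homotopy.ofEq (add_zero 0))⟩
  smul_mem' := fun r _ ⟨H⟩ =>
    ⟨((Homotopy.ofEq (mul_smul r _ _)).trans (H.smul r)).trans (Homotopy.ofEq (smul_zero r))⟩

theorem smul_homology_eq_zero {K : CochainComplex (ModuleCat.{v} A) ℤ} {a : A}
    (H : Homotopy (a • 𝟙 K) 0) (i : ℤ) (h : K.homology i) : a • h = 0 := by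
  have := H.homologyMap_eq i
  rw [HomologicalComplex.homologyMap_zero] at this
  obtain ⟨z, rfl⟩ := Elem.cls_surjective (next_up i) h
  rw [← map_smul, ← Elem.homologyMap_cls (a • 𝟙 K : K ⟶ K) (next_up i) z (a • z) rfl, this]
  rfl

/-- `(a, b, c, d) ↦ (-a, c, b, d)` -/
noncomputable def swapMap (f g : A) (i : ℤ) :
    (smulCone g (smulCone f C)).X i →ₗ[A] (smulCone f (smulCone g C)).X i :=
  cmk (f • 𝟙 (smulCone g C)) i (i + 1) rfl ∘ₗ
    LinearMap.prod
      (cmk (g • 𝟙 C) (i + 1) (i + 1 + 1) rfl ∘ₗ LinearMap.prod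
        (-(cfst (f • 𝟙 C) (i + 1) (i + 1 + 1) rfl ∘ₗ cfst (g • 𝟙 (smulCone f C)) i (i + 1) rfl))
        (cfst (f • 𝟙 C) i (i + 1) rfl ∘ₗ csnd (g • 𝟙 (smulCone f C)) i))
      (cmk (g • 𝟙 C) i (i + 1) rfl ∘ₗ LinearMap.prod
        (csnd (f • 𝟙 C) (i + 1) ∘ₗ cfst (g • 𝟙 (smulCone f C)) i (i + 1) rfl)
        (csnd (f • 𝟙 C) i ∘ₗ csnd (g • 𝟙 (smulCone f C)) i))

theorem swapMap_mk (f g : A) (i : ℤ) (a b c d) :
    swapMap C f g i (cmk (g • 𝟙 (smulCone f C)) i (i + 1) rfl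
      (cmk (f • 𝟙 C) (i + 1) (i + 1 + 1) rfl (a, b), cmk (f • 𝟙 C) i (i + 1) rfl (c, d))) =
    cmk (f • 𝟙 (smulCone g C)) i (i + 1) rfl
      (cmk (g • 𝟙 C) (i + 1) (i + 1 + 1) rfl (-a, c), cmk (g • 𝟙 C) i (i + 1) rfl (b, d)) := by
  simp only [swapMap, LinearMap.comp_apply, LinearMap.prod_apply, Function.prod_apply,
    LinearMap.neg_apply, cfst_cmk, csnd_cmk]

theorem swapMap_swapMap (f g : A) (i : ℤ) (z : (smulCone g (smulCone f C)).X i) :
    swapMap C g f i (swapMap C f g i z) = z := by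
  obtain ⟨⟨u, w⟩, rfl⟩ := cmk_surjective (g • 𝟙 (smulCone f C)) i (i + 1) rfl z
  obtain ⟨⟨a, b⟩, rfl⟩ := cmk_surjective (f • 𝟙 C) (i + 1) (i + 1 + 1) rfl u
  obtain ⟨⟨c, d⟩, rfl⟩ := cmk_surjective (f • 𝟙 C) i (i + 1) rfl w
  rw [swapMap_mk, swapMap_mk, neg_neg]

/-- the interchange in each degree -/
noncomputable def swapEquiv (f g : A) (i : ℤ) :
    (smulCone g (smulCone f C)).X i ≃ₗ[A] (smulCone f (smulCone g C)).X i :=
  LinearEquiv.ofLinearMap (swapMap C f g i) (swapMap C g f i)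
    (LinearMap.ext fun z => swapMap_swapMap C g f i z)
    (LinearMap.ext fun z => swapMap_swapMap C f g i z)

theorem swapMap_d (f g : A) (i : ℤ) (z : (smulCone g (smulCone f C)).X i) :
    (smulCone f (smulCone g C)).d i (i + 1) (swapMap C f g i z) =
      swapMap C f g (i + 1) ((smulCone g (smulCone f C)).d i (i + 1) z) := by
  obtain ⟨⟨u, w⟩, rfl⟩ := cmk_surjective (g • 𝟙 (smulCone f C)) i (i + 1) rfl z
  obtain ⟨⟨a, b⟩, rfl⟩ := cmk_surjective (f • 𝟙 C) (i + 1) (i + 1 + 1) rfl u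
  obtain ⟨⟨c, d⟩, rfl⟩ := cmk_surjective (f • 𝟙 C) i (i + 1) rfl w
  rw [swapMap_mk]
  simp only [d_cmk _ i (i + 1) (i + 1 + 1) rfl rfl,
    d_cmk _ (i + 1) (i + 1 + 1) (i + 1 + 1 + 1) rfl rfl, map_smul_id, ← map_smul, ← map_neg,
    ← map_add, Prod.smul_mk, Prod.neg_mk, Prod.mk_add_mk, swapMap_mk]
  congr 3 <;> simp only [map_neg, smul_neg, neg_neg] <;> abel

/-- The two iterated cones agree. -/
noncomputable def swap (f g : A) : smulCone g (smulCone f C) ≅ smulCone f (smulCone g C) :=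
  HomologicalComplex.Hom.isoOfComponents (fun i => (swapEquiv C f g i).toModuleIso)
    (fun i j h => by
      obtain rfl : i + 1 = j := h
      apply ModuleCat.hom_ext
      exact LinearMap.ext fun z => swapMap_d C f g i z)

end Groth.Agent.Lib.Koszul.Null
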