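import Groth.Agent.Lib.Koszul.Tensor
import Mathlib.Data.Fintype.Sum
import Mathlib.Data.Fintype.Sigma
import Mathlib.LinearAlgebra.Pi
import Mathlib.Data.Nat.Choose.Basic

/-!
# The cone of a null-homotopic scalar splits on cohomology
-/

universe u

open CategoryTheory CategoryTheory.Limits CochainComplex

namespace Groth.Agent.Lib.Koszul.NullCone

open Groth.Agent.Lib.FlatCx Groth.Agent.Lib.Koszul.Cone Groth.Agent.Lib.Koszul.SmulCone
open Groth.Agent.Lib.Koszul.Basic

variable {A : Type u} [CommRing A]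

/-- `H^i(cone y) = H^{i+1}(C) × H^i(C)` when `y` is null-homotopic on `C`. -/
theorem nonempty_split {C : CochainComplex (ModuleCat.{u} A) ℤ} {y : A}
    (H : Homotopy (y • 𝟙 C) 0) (i : ℤ) :
    Nonempty ((smulCone y C).homology i ≃ₗ[A] C.homology (i + 1) × C.homology i) := by
  have hy : ∀ (j : ℤ) (h : C.homology j), y • h = 0 := fun j h =>
    Null.smul_homology_eq_zero H j h
  let G : C.X (i + 1) →ₗ[A] (smulCone y C).X i :=
    cmk (y • 𝟙 C) i (i + 1) rfl ∘ₗ
      LinearMap.prod LinearMap.id (-(H.hom (i + 1) i).hom)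
  have hG : ∀ a ∈ LinearMap.ker (C.d (i + 1) (i + 1 + 1)).hom,
      G a ∈ LinearMap.ker ((smulCone y C).d i (i + 1)).hom := fun a ha => by
    refine (d_eq_zero_iff _ i (i + 1) rfl _ _).2 ⟨ha, ?_⟩
    show (y • 𝟙 C : C ⟶ C).f (i + 1) a + C.d i (i + 1) (-(H.hom (i + 1) i).hom a) = 0
    rw [Null.homotopy_eq H (i + 1) a, show C.d (i + 1) (i + 1 + 1) a = 0 from ha, map_zero,
      zero_add, map_neg]
    have e : ∀ j (_ : j = i), C.d j (i + 1) (H.hom (i + 1) j a) =
        C.d i (i + 1) (H.hom (i + 1) i a) := by rintro _ rfl; rfl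
    rw [e _ (by omega)]
    exact add_neg_cancel _
  let F := Elem.cls (next_up i) ∘ₗ G.restrict hG
  have hbd : ∀ (j : ℤ) (_ : j = i) (c : C.X j),
      ∃ w, (smulCone y C).d (i - 1) i w = G (C.d j (i + 1) c) := by
    rintro j rfl c
    refine ⟨cmk (y • 𝟙 C) (j - 1) j (by omega) (-c, H.hom j (j - 1) c), ?_⟩
    rw [d_cmk _ (j - 1) j (j + 1) (by omega) rfl]
    show cmk _ j (j + 1) rfl (-C.d j (j + 1) (-c), _) =
      cmk _ j (j + 1) rfl (C.d j (j + 1) c, -(H.hom (j + 1) j).hom (C.d j (j + 1) c))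
    rw [map_neg, neg_neg, map_neg ((y • 𝟙 C : C ⟶ C).f j).hom, Null.homotopy_eq H j c]
    congr 2
    abel
  let σ : C.homology (i + 1) →ₗ[A] (smulCone y C).homology i :=
    descH (i + 1) F (fun c => (Elem.cls_eq_zero_iff (prev_up i) (next_up i) _).2
      (hbd _ (by omega) c))
  have hσ : ∀ h, outH y C i (σ h) = h := by
    intro h
    obtain ⟨a, rfl⟩ := Elem.cls_surjective (next_up (i + 1)) h
    show outH y C i (σ _) = _
    rw [show σ (Elem.cls (next_up (i + 1)) a) = F a from descH_cls (i + 1) F _ a]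
    exact outH_cls y C i a.1 (-(H.hom (i + 1) i).hom a.1) (hG a.1 a.2)
  refine ⟨(LinearEquiv.ofBijective (LinearMap.coprod σ (inH y C i)) ⟨?_, ?_⟩).symm⟩
  · rw [injective_iff_map_eq_zero]
    rintro ⟨a, b⟩ h
    rw [LinearMap.coprod_apply] at h
    have h1 := congrArg (outH y C i) h
    rw [map_add, hσ, outH_inH, add_zero, map_zero] at h1
    subst h1
    rw [map_zero, zero_add] at h
    obtain ⟨b', hb'⟩ := (inH_eq_zero_iff y C i b).1 h
    exact Prod.ext rfl (hb'.symm.trans (hy i b'))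
  · intro z
    obtain ⟨b, hb⟩ := (exact_inH_outH y C i (z - σ (outH y C i z))).1 (by rw [map_sub, hσ, sub_self])
    exact ⟨(outH y C i z, b), by rw [LinearMap.coprod_apply, hb]; exact add_sub_cancel _ _⟩

theorem nullIdeal_le (C : CochainComplex (ModuleCat.{u} A) ℤ) :
    ∀ l : List A, Null.nullIdeal C ≤ Null.nullIdeal (koszulOn C l)
  | [] => le_refl _
  | f :: l => fun _ ha => let ⟨H⟩ := nullIdeal_le C l ha; ⟨Null.smulOther f _ _ H⟩

/-- Index set for the iterated splitting. -/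
def Idx : ℕ → Type
  | 0 => Unit
  | n + 1 => Idx n ⊕ Idx n

/-- Degree shift of an index. -/
def deg : ∀ {n : ℕ}, Idx n → ℕ
  | 0, _ => 0
  | _ + 1, .inl t => deg t + 1
  | _ + 1, .inr t => deg t

instance fintypeIdx : ∀ n, Fintype (Idx n)
  | 0 => inferInstanceAs (Fintype Unit)
  | n + 1 => have := fintypeIdx n; inferInstanceAs (Fintype (Idx n ⊕ Idx n))

theorem deg_le : ∀ {n : ℕ} (t : Idx n), deg t ≤ n
  | 0, _ => le_refl _
  | _ + 1, .inl t => Nat.succ_le_succ (deg_le t)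
  | _ + 1, .inr t => (deg_le t).trans (Nat.le_succ _)

theorem card_deg : ∀ n j : ℕ, Nat.card {t : Idx n // deg t = j} = n.choose j
  | 0, 0 => by
    have : Unique {t : Idx 0 // deg t = 0} := ⟨⟨⟨(), rfl⟩⟩, fun _ => rfl⟩
    simp
  | 0, j + 1 => by
    have : IsEmpty {t : Idx 0 // deg t = j + 1} := ⟨fun t => by simpa [deg] using t.2⟩
    simp
  | n + 1, j => by
    refine ((Nat.card_congr (Equiv.subtypeSum (α := Idx n) (β := Idx n)
      (p := fun t => deg (n := n + 1) t = j))).trans Nat.card_sum).trans ?_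
    cases j with
    | zero =>
      have : IsEmpty {a : Idx n // deg (n := n + 1) (.inl a) = 0} := ⟨fun t => Nat.succ_ne_zero _ t.2⟩
      rw [Nat.card_of_isEmpty, zero_add]
      exact (card_deg n 0).trans (by simp)
    | succ k =>
      rw [Nat.choose_succ_succ]
      exact congrArg₂ (· + ·)
        ((Nat.card_congr (Equiv.subtypeEquivRight fun a => Nat.succ_inj)).trans (card_deg n k))
        (card_deg n (k + 1))

/-- Transport along an equality of degrees. -/
noncomputable def castH (C : CochainComplex (ModuleCat.{u} A) ℤ) {a b : ℤ} (h : a = b) :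
    C.homology a ≃ₗ[A] C.homology b :=
  h ▸ LinearEquiv.refl A _

theorem nonempty_equiv_idx (C : CochainComplex (ModuleCat.{u} A) ℤ) :
    ∀ l : List A, (∀ y ∈ l, y ∈ Null.nullIdeal C) → ∀ m : ℤ,
      Nonempty ((koszulOn C l).homology m ≃ₗ[A]
        ((t : Idx l.length) → C.homology (m + (deg t : ℕ))))
  | [], _, m => ⟨castH C (show m = m + (0 : ℕ) by simp) ≪≫ₗ
      (LinearEquiv.funUnique Unit A _).symm⟩
  | y :: l, hl, m => by
    obtain ⟨H⟩ := nullIdeal_le C l (hl y List.mem_cons_self)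
    obtain ⟨e⟩ := nonempty_split H m
    obtain ⟨e1⟩ := nonempty_equiv_idx C l (fun z hz => hl z (List.mem_cons_of_mem _ hz)) (m + 1)
    obtain ⟨e0⟩ := nonempty_equiv_idx C l (fun z hz => hl z (List.mem_cons_of_mem _ hz)) m
    refine ⟨e ≪≫ₗ LinearEquiv.prodCongr (e1 ≪≫ₗ LinearEquiv.piCongrRight fun t =>
      castH C (show m + 1 + (deg t : ℕ) = m + ((deg t + 1 : ℕ)) by push_cast; ring)) e0 ≪≫ₗ ?_⟩
    exact (LinearEquiv.sumPiEquivProdPi A (Idx l.length) (Idx l.length)
      (fun t => C.homology (m + (deg (n := l.length + 1) t : ℕ)))).symm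

theorem nonempty_equiv_choose (C : CochainComplex (ModuleCat.{u} A) ℤ) (l : List A)
    (hl : ∀ y ∈ l, y ∈ Null.nullIdeal C) (m : ℤ) :
    Nonempty ((koszulOn C l).homology m ≃ₗ[A]
      ((j : Fin (l.length + 1)) → Fin (l.length.choose j) → C.homology (m + j))) := by
  obtain ⟨e⟩ := nonempty_equiv_idx C l hl m
  let f : Idx l.length → Fin (l.length + 1) := fun t => ⟨deg t, Nat.lt_succ_of_le (deg_le t)⟩
  let fib : ∀ j : Fin (l.length + 1), {t // f t = j} ≃ Fin (l.length.choose j) := fun j =>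
    (Equiv.subtypeEquivRight fun t => Fin.ext_iff).trans
      (Finite.equivFinOfCardEq (card_deg l.length j))
  let E : Idx l.length ≃ (Σ j : Fin (l.length + 1), Fin (l.length.choose j)) :=
    (Equiv.sigmaFiberEquiv f).symm.trans (Equiv.sigmaCongrRight fib)
  have hE : ∀ s, (deg (E.symm s) : ℕ) = (s.1 : ℕ) := fun s =>
    congrArg Fin.val ((fib s.1).symm s.2).2
  exact ⟨e ≪≫ₗ LinearEquiv.piCongrLeft' A _ E ≪≫ₗ
    (LinearEquiv.piCongrRight fun s => castH C (congrArg (fun k : ℕ => m + (k : ℤ)) (hE s))) ≪≫ₗ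
    LinearEquiv.piCurry A (fun (j : Fin (l.length + 1)) (_ : Fin (l.length.choose j)) =>
      C.homology (m + (j : ℕ)))⟩

/-- `H(K(x, y) ⊗ M)` for `y` in `(x)`. -/
theorem nonempty_tensor_equiv (M : ModuleCat.{u} A) (xs ys : List A)
    (hy : ∀ y ∈ ys, y ∈ Ideal.span {a | a ∈ xs}) (m : ℤ) :
    Nonempty ((DRing.tensorCx (Koszul.koszul A (xs ++ ys)) M).homology m ≃ₗ[A]
      ((j : Fin (ys.length + 1)) → Fin (ys.length.choose j) →
        (DRing.tensorCx (Koszul.koszul A xs) M).homology (m + j))) := by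
  obtain ⟨p⟩ := Tensor.nonempty_iso_of_perm (sgl M) (List.perm_append_comm (l₁ := xs) (l₂ := ys))
  obtain ⟨e⟩ := nonempty_equiv_choose (koszulOn (sgl M) xs) ys
    (fun y hy' => exists_homotopy_of_mem_span (sgl M) xs (hy y hy')) m
  exact ⟨(Tensor.tensorHomologyIso (xs ++ ys) M m ≪≫
      (HomologicalComplex.homologyFunctor _ _ m).mapIso (p ≪≫ eqToIso (koszulOn_append _ _ _))).toLinearEquiv ≪≫ₗ
    e ≪≫ₗ LinearEquiv.piCongrRight fun j => LinearEquiv.piCongrRight fun _ =>
      (Tensor.tensorHomologyIso xs M (m + j)).toLinearEquiv.symm⟩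

end Groth.Agent.Lib.Koszul.NullCone
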