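import Groth.Agent.Lib.Koszul.Basic
import Mathlib.CategoryTheory.Limits.Shapes.Pullback.IsPullback.Basic
import Mathlib.LinearAlgebra.TensorProduct.Quotient
import Mathlib.RingTheory.Regular.IsSMulRegular

/-!
# The Koszul complex of `(x f₁, …, x fₙ)`
-/

universe u

open CategoryTheory CategoryTheory.Limits CochainComplex
open scoped Pointwise

namespace Groth.Agent.Lib.Koszul.Scaled

open Groth.Agent.Lib.FlatCx Groth.Agent.Lib.Koszul.Cone Groth.Agent.Lib.Koszul.SmulCone
open Groth.Agent.Lib.Koszul.Basic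

variable {A : Type u} [CommRing A]

/-- A square is a pullback as soon as it is one on elements. -/
theorem isPullback_of_elements {P X Y Z : ModuleCat.{u} A} (fst : P ⟶ X) (snd : P ⟶ Y) (f : X ⟶ Z)
    (g : Y ⟶ Z) (w : ∀ p, f (fst p) = g (snd p))
    (inj : ∀ p, fst p = 0 → snd p = 0 → p = 0)
    (surj : ∀ a b, f a = g b → ∃ p, fst p = a ∧ snd p = b) : IsPullback fst snd f g := by
  have hw : fst ≫ f = snd ≫ g := ModuleCat.hom_ext (LinearMap.ext w)
  let Φ : P →ₗ[A] X × Y := LinearMap.prod fst.hom snd.hom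
  have hΦ : Function.Injective Φ := (injective_iff_map_eq_zero _).2 fun p hp =>
    inj p (congrArg Prod.fst hp) (congrArg Prod.snd hp)
  refine IsPullback.of_isLimit (PullbackCone.IsLimit.mk hw
    (fun s => ModuleCat.ofHom ((LinearEquiv.ofInjective Φ hΦ).symm.toLinearMap ∘ₗ
      (LinearMap.prod s.fst.hom s.snd.hom).codRestrict (LinearMap.range Φ) fun z => by
        obtain ⟨p, h1, h2⟩ := surj (s.fst z) (s.snd z)
          (congrArg (fun φ => φ.hom z) s.condition)
        exact ⟨p, Prod.ext h1 h2⟩)) ?_ ?_ ?_)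
  · intro s
    refine ModuleCat.hom_ext (LinearMap.ext fun z => ?_)
    have hmem : (s.fst z, s.snd z) ∈ LinearMap.range Φ := by
      obtain ⟨p, h1, h2⟩ := surj (s.fst z) (s.snd z) (congrArg (fun φ => φ.hom z) s.condition)
      exact ⟨p, Prod.ext h1 h2⟩
    exact congrArg (fun q : LinearMap.range Φ => q.1.1)
      ((LinearEquiv.ofInjective Φ hΦ).apply_symm_apply ⟨_, hmem⟩)
  · intro s
    refine ModuleCat.hom_ext (LinearMap.ext fun z => ?_)
    have hmem : (s.fst z, s.snd z) ∈ LinearMap.range Φ := by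
      obtain ⟨p, h1, h2⟩ := surj (s.fst z) (s.snd z) (congrArg (fun φ => φ.hom z) s.condition)
      exact ⟨p, Prod.ext h1 h2⟩
    exact congrArg (fun q : LinearMap.range Φ => q.1.2)
      ((LinearEquiv.ofInjective Φ hΦ).apply_symm_apply ⟨_, hmem⟩)
  · intro s m h1 h2
    refine ModuleCat.hom_ext (LinearMap.ext fun z => hΦ ?_)
    have hmem : (s.fst z, s.snd z) ∈ LinearMap.range Φ := by
      obtain ⟨p, h1, h2⟩ := surj (s.fst z) (s.snd z) (congrArg (fun φ => φ.hom z) s.condition)
      exact ⟨p, Prod.ext h1 h2⟩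
    refine (Prod.ext (congrArg (fun φ => φ.hom z) h1) (congrArg (fun φ => φ.hom z) h2) :
      Φ (m z) = (s.fst z, s.snd z)).trans ?_
    exact (congrArg Subtype.val ((LinearEquiv.ofInjective Φ hΦ).apply_symm_apply ⟨_, hmem⟩)).symm

theorem isSMulRegular_X {x : A} (hx : x ∈ nonZeroDivisors A) :
    ∀ (l : List A) (i : ℤ), IsSMulRegular ((koszulOn (sgl (ModuleCat.of A A)) l).X i) x
  | [], i => by
    rcases eq_or_ne i 0 with rfl | hi
    · show IsSMulRegular ((sgl (ModuleCat.of A A)).X 0) x
      intro a b h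
      apply (HomologicalComplex.singleObjXSelf (ComplexShape.up ℤ) 0
        (ModuleCat.of A A)).toLinearEquiv.injective
      have h' := congrArg (HomologicalComplex.singleObjXSelf (ComplexShape.up ℤ) 0
        (ModuleCat.of A A)).toLinearEquiv h
      simp only [map_smul] at h'
      rw [← sub_eq_zero, ← smul_sub] at h'
      exact sub_eq_zero.1 (hx.1 _ h')
    · have := ModuleCat.isZero_iff_subsingleton.1
        (HomologicalComplex.isZero_single_obj_X (ComplexShape.up ℤ) 0 (ModuleCat.of A A) i hi)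
      exact fun a b _ => Subsingleton.elim (α := (sgl (ModuleCat.of A A)).X i) a b
  | f :: l, i => fun a b h => by
    refine ext (f • 𝟙 (koszulOn (sgl (ModuleCat.of A A)) l)) (rfl : i + 1 = i + 1) ?_ ?_
    · apply isSMulRegular_X hx l (i + 1)
      exact ((map_smul _ x a).symm.trans (congrArg _ h)).trans (map_smul _ x b)
    · apply isSMulRegular_X hx l i
      exact ((map_smul _ x a).symm.trans (congrArg _ h)).trans (map_smul _ x b)

/-- In each degree `K(x l)` and `K(l)` agree, with differential multiplied by `x`. -/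
theorem exists_equiv (C : CochainComplex (ModuleCat.{u} A) ℤ) (hC : ∀ i j, C.d i j = 0) (x : A) :
    ∀ l : List A, ∃ E : ∀ i : ℤ,
        (koszulOn C (l.map fun f => x * f)).X i ≃ₗ[A] (koszulOn C l).X i,
      ∀ i z, E (i + 1) ((koszulOn C (l.map fun f => x * f)).d i (i + 1) z) =
        x • (koszulOn C l).d i (i + 1) (E i z)
  | [] => ⟨fun i => LinearEquiv.refl A _, fun i z => by
      show (C.d i (i + 1)) z = x • (C.d i (i + 1)) z
      rw [hC]
      exact (smul_zero x).symm⟩
  | f :: l => by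
    obtain ⟨E, hE⟩ := exists_equiv C hC x l
    let K' := koszulOn C (l.map fun f => x * f)
    let K := koszulOn C l
    let F : ∀ i : ℤ, (smulCone (x * f) K').X i ≃ₗ[A] (smulCone f K).X i := fun i =>
      LinearEquiv.ofBijective
        (cmk (f • 𝟙 K) i (i + 1) rfl ∘ₗ LinearMap.prodMap (E (i + 1)).toLinearMap (E i).toLinearMap ∘ₗ
          LinearMap.prod (cfst ((x * f) • 𝟙 K') i (i + 1) rfl) (csnd ((x * f) • 𝟙 K') i))
        ⟨fun a b h => by
          have h1 := congrArg (cfst (f • 𝟙 K) i (i + 1) rfl) h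
          have h2 := congrArg (csnd (f • 𝟙 K) i) h
          simp only [LinearMap.comp_apply, cfst_cmk, csnd_cmk, LinearMap.prodMap_apply,
            LinearMap.prod_apply, Function.prod_apply, LinearEquiv.coe_coe] at h1 h2
          exact ext _ rfl ((E _).injective h1) ((E _).injective h2),
        fun z => by
          obtain ⟨⟨a, b⟩, rfl⟩ := cmk_surjective (f • 𝟙 K) i (i + 1) rfl z
          refine ⟨cmk _ i (i + 1) rfl ((E (i + 1)).symm a, (E i).symm b), ?_⟩
          simp [cfst_cmk, csnd_cmk]⟩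
    have hF : ∀ i a b, F i (cmk _ i (i + 1) rfl (a, b)) =
        cmk (f • 𝟙 K) i (i + 1) rfl (E (i + 1) a, E i b) := fun i a b => by
      show cmk (f • 𝟙 K) i (i + 1) rfl (E (i + 1) (cfst _ i (i + 1) rfl _), E i (csnd _ i _)) = _
      rw [cfst_cmk, csnd_cmk]
    refine ⟨F, fun i z => ?_⟩
    show F (i + 1) ((smulCone (x * f) K').d i (i + 1) z) = x • (smulCone f K).d i (i + 1) (F i z)
    obtain ⟨⟨a, b⟩, rfl⟩ := cmk_surjective ((x * f) • 𝟙 K') i (i + 1) rfl z
    rw [d_cmk _ i (i + 1) (i + 1 + 1) rfl rfl, hF, hF, d_cmk _ i (i + 1) (i + 1 + 1) rfl rfl,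
      ← map_smul, map_smul_id, map_smul_id, map_neg, map_add, map_smul, hE, hE, Prod.smul_mk,
      smul_neg, smul_add, smul_smul]

/-- `H^q(K(x l)) = Z^q / x B^q`. -/
theorem nonempty_homologyEquiv {x : A} (hx : x ∈ nonZeroDivisors A) (l : List A) (q : ℤ) :
    Nonempty ((koszulOn (sgl (ModuleCat.of A A)) (l.map fun f => x * f)).homology q ≃ₗ[A]
      (LinearMap.ker ((koszulOn (sgl (ModuleCat.of A A)) l).d q (q + 1)).hom ⧸
        Submodule.comap (LinearMap.ker ((koszulOn (sgl (ModuleCat.of A A)) l).d q (q + 1)).hom).subtype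
          (Ideal.span {x} • LinearMap.range ((koszulOn (sgl (ModuleCat.of A A)) l).d (q - 1) q).hom))) := by
  obtain ⟨E, hE⟩ := exists_equiv (sgl (ModuleCat.of A A))
    (fun i j => by simp [sgl]) x l
  have hE' : ∀ i j, i + 1 = j → ∀ z,
      E j ((koszulOn (sgl (ModuleCat.of A A)) (l.map fun f => x * f)).d i j z) =
        x • (koszulOn (sgl (ModuleCat.of A A)) l).d i j (E i z) := by
    rintro i _ rfl z; exact hE i z
  let e : LinearMap.ker ((koszulOn (sgl (ModuleCat.of A A)) (l.map fun f => x * f)).d q (q + 1)).hom ≃ₗ[A]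
      LinearMap.ker ((koszulOn (sgl (ModuleCat.of A A)) l).d q (q + 1)).hom :=
    (E q).ofSubmodules _ _ (by
      ext z
      rw [Submodule.mem_map]
      constructor
      · rintro ⟨w, hw, rfl⟩
        apply isSMulRegular_X hx l (q + 1)
        show x • _ = x • (0 : _)
        rw [smul_zero]
        refine (hE' q (q + 1) rfl w).symm.trans ?_
        rw [show (koszulOn (sgl (ModuleCat.of A A)) (l.map fun f => x * f)).d q (q + 1) w = 0 from hw,
          map_zero]
      · intro hz
        refine ⟨(E q).symm z, (E (q + 1)).injective ?_, (E q).apply_symm_apply z⟩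
        rw [map_zero]
        refine (hE' q (q + 1) rfl _).trans ?_
        rw [LinearEquiv.apply_symm_apply,
          show (koszulOn (sgl (ModuleCat.of A A)) l).d q (q + 1) z = 0 from hz, smul_zero])
  refine ⟨(Elem.homologyEquiv (prev_up q) (next_up q)).symm ≪≫ₗ Submodule.Quotient.equiv _ _ e ?_⟩
  ext z
  rw [Submodule.mem_map, Submodule.mem_comap, Submodule.ideal_span_singleton_smul,
    Submodule.mem_smul_pointwise_iff_exists]
  constructor
  · rintro ⟨w, ⟨y, hy⟩, rfl⟩
    refine ⟨_, ⟨E (q - 1) y, rfl⟩, ?_⟩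
    refine (hE' (q - 1) q (by omega) y).symm.trans ?_
    exact congrArg (E q) hy
  · rintro ⟨_, ⟨y, rfl⟩, hy⟩
    refine ⟨e.symm z, ⟨(E (q - 1)).symm y, (E q).injective ?_⟩, e.apply_symm_apply z⟩
    refine (hE' (q - 1) q (by omega) _).trans ?_
    rw [LinearEquiv.apply_symm_apply]
    exact hy.trans (congrArg Subtype.val (e.apply_symm_apply z)).symm

/-- For a weakly regular sequence the negative cohomology of `K(x l)` is `Z ⊗ A/(x)`. -/
theorem nonempty_homologyEquiv_of_weaklyRegular {x : A} (hx : x ∈ nonZeroDivisors A) {l : List A}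
    (hl : RingTheory.Sequence.IsWeaklyRegular A l) {q : ℤ} (hq : q ≠ 0) :
    Nonempty ((koszulOn (sgl (ModuleCat.of A A)) (l.map fun f => x * f)).homology q ≃ₗ[A]
      TensorProduct A (LinearMap.ker ((koszulOn (sgl (ModuleCat.of A A)) l).d q (q + 1)).hom)
        (A ⧸ Ideal.span {x})) := by
  obtain ⟨e⟩ := nonempty_homologyEquiv hx l q
  have h := (Elem.isZero_homology_iff (prev_up q) (next_up q)).1
    (isZero_of_weaklyRegular (ModuleCat.of A A) l hl q hq)
  have hBZ : LinearMap.range ((koszulOn (sgl (ModuleCat.of A A)) l).d (q - 1) q).hom =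
      LinearMap.ker ((koszulOn (sgl (ModuleCat.of A A)) l).d q (q + 1)).hom := by
    apply le_antisymm
    · rintro _ ⟨y, rfl⟩
      exact congrArg (fun φ => φ.hom y)
        ((koszulOn (sgl (ModuleCat.of A A)) l).d_comp_d (q - 1) q (q + 1))
    · intro z hz
      exact h z hz
  refine ⟨e ≪≫ₗ Submodule.quotEquivOfEq _ _ ?_ ≪≫ₗ
    (TensorProduct.tensorQuotEquivQuotSMul _ _).symm⟩
  rw [hBZ]
  apply Submodule.map_injective_of_injective (Submodule.injective_subtype _)
  rw [Submodule.map_comap_subtype, Submodule.map_smul'', Submodule.map_top, Submodule.range_subtype,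
    inf_eq_right]
  exact Submodule.smul_le_right

/-- The cartesian square `Z/xB, Z/xZ, Z/B, Z/(B + xZ)`. -/
theorem isPullback_factor {M : Type u} [AddCommGroup M] [Module A M] (Z B : Submodule A M)
    (hBZ : B ≤ Z) (x : A) (hxH : IsSMulRegular (Z ⧸ Submodule.comap Z.subtype B) x) :
    IsPullback
      (ModuleCat.ofHom (Submodule.factor (Submodule.comap_mono (Submodule.smul_mono le_rfl hBZ) :
        Submodule.comap Z.subtype (Ideal.span {x} • B) ≤
          Submodule.comap Z.subtype (Ideal.span {x} • Z))))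
      (ModuleCat.ofHom (Submodule.factor (Submodule.comap_mono Submodule.smul_le_right :
        Submodule.comap Z.subtype (Ideal.span {x} • B) ≤ Submodule.comap Z.subtype B)))
      (ModuleCat.ofHom (Submodule.factor (Submodule.comap_mono le_sup_right :
        Submodule.comap Z.subtype (Ideal.span {x} • Z) ≤
          Submodule.comap Z.subtype (B ⊔ Ideal.span {x} • Z))))
      (ModuleCat.ofHom (Submodule.factor (Submodule.comap_mono le_sup_left :
        Submodule.comap Z.subtype B ≤ Submodule.comap Z.subtype (B ⊔ Ideal.span {x} • Z)))) := by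
  refine isPullback_of_elements _ _ _ _ (fun p => ?_) ?_ ?_
  · obtain ⟨z, rfl⟩ := Submodule.Quotient.mk_surjective _ p; rfl
  · intro p h1 h2
    obtain ⟨z, rfl⟩ := Submodule.Quotient.mk_surjective _ p
    replace h1 := (Submodule.Quotient.mk_eq_zero _).1 h1
    replace h2 := (Submodule.Quotient.mk_eq_zero _).1 h2
    refine (Submodule.Quotient.mk_eq_zero _).2 ?_
    rw [Submodule.mem_comap, Submodule.ideal_span_singleton_smul,
      Submodule.mem_smul_pointwise_iff_exists] at h1 ⊢
    obtain ⟨w, hw, hwz⟩ := h1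
    refine ⟨w, ?_, hwz⟩
    have h3 : x • (Submodule.Quotient.mk ⟨w, hw⟩ : Z ⧸ Submodule.comap Z.subtype B) = x • 0 := by
      rw [smul_zero, ← Submodule.Quotient.mk_smul, Submodule.Quotient.mk_eq_zero, Submodule.mem_comap]
      show x • w ∈ B
      rw [hwz]
      exact h2
    exact ((Submodule.Quotient.mk_eq_zero _).1 (hxH h3) : _)
  · intro a b h
    obtain ⟨z1, rfl⟩ := Submodule.Quotient.mk_surjective _ a
    obtain ⟨z2, rfl⟩ := Submodule.Quotient.mk_surjective _ b
    replace h := (Submodule.Quotient.eq _).1 h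
    rw [Submodule.mem_comap, Submodule.mem_sup] at h
    obtain ⟨b0, hb0, xw, hxw, h⟩ := h
    have hxwZ : xw ∈ Z := Submodule.smul_le_right hxw
    refine ⟨Submodule.Quotient.mk (z1 - ⟨xw, hxwZ⟩),
      (Submodule.Quotient.eq _).2 ?_, (Submodule.Quotient.eq _).2 ?_⟩
    · rw [Submodule.mem_comap]
      show (z1.1 - xw) - z1.1 ∈ _
      rw [sub_sub_cancel_left]
      exact neg_mem hxw
    · rw [Submodule.mem_comap]
      show (z1.1 - xw) - z2.1 ∈ B
      have : b0 = (z1.1 - xw) - z2.1 := by
        have h' : b0 + xw = z1.1 - z2.1 := h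
        rw [sub_sub, add_comm xw, ← sub_sub, ← h', add_sub_cancel_right]
      exact this ▸ hb0

end Groth.Agent.Lib.Koszul.Scaled
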