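import Groth.Agent.Lib.Koszul.Cone
import Mathlib.Algebra.Homology.QuasiIso
import Mathlib.RingTheory.Ideal.Operations
import Mathlib.RingTheory.Noetherian.Basic
import Mathlib.RingTheory.Finiteness.Basic
import Mathlib.LinearAlgebra.Quotient.Basic

/-!
# The mapping cone of multiplication by a ring element

For a complex `C` and `x : A`, with `Z = mappingCone (x • 𝟙 C)`, the sequence
`H^i(C) --x--> H^i(C) → H^i(Z) → H^{i+1}(C) --x--> H^{i+1}(C)` is exact.
-/

universe u v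

open CategoryTheory CategoryTheory.Limits CochainComplex

namespace Groth.Agent.Lib.Koszul.SmulCone

open Groth.Agent.Lib.FlatCx Groth.Agent.Lib.Koszul.Cone

variable {A : Type u} [CommRing A]

/-- The mapping cone of multiplication by `x`. -/
noncomputable abbrev smulCone (x : A) (C : CochainComplex (ModuleCat.{v} A) ℤ) :
    CochainComplex (ModuleCat.{v} A) ℤ :=
  mappingCone (x • 𝟙 C)

/-- Descend a linear map on cycles vanishing on boundaries to homology. -/
noncomputable def descH {K : CochainComplex (ModuleCat.{v} A) ℤ} {N : Type v} [AddCommGroup N]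
    [Module A N] (i : ℤ) (F : LinearMap.ker (K.d i (i + 1)).hom →ₗ[A] N)
    (hF : ∀ y : K.X (i - 1), F ⟨K.d (i - 1) i y, d_d _ _ _ y⟩ = 0) : K.homology i →ₗ[A] N :=
  (Submodule.liftQ _ F (by
    rintro ⟨z, hz⟩ ⟨y, rfl⟩
    exact hF y)) ∘ₗ (Elem.homologyEquiv (prev_up i) (next_up i)).symm.toLinearMap

theorem descH_cls {K : CochainComplex (ModuleCat.{v} A) ℤ} {N : Type v} [AddCommGroup N]
    [Module A N] (i : ℤ) (F : LinearMap.ker (K.d i (i + 1)).hom →ₗ[A] N)
    (hF : ∀ y : K.X (i - 1), F ⟨K.d (i - 1) i y, d_d _ _ _ y⟩ = 0)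
    (z : LinearMap.ker (K.d i (i + 1)).hom) :
    descH i F hF (Elem.cls (next_up i) z) = F z := by
  rw [← Elem.homologyEquiv_mk (prev_up i) (next_up i)]
  simp [descH]

variable (x : A) (C : CochainComplex (ModuleCat.{v} A) ℤ)

/-- `H^i(C) → H^i(cone)` -/
noncomputable def inH (i : ℤ) : C.homology i →ₗ[A] (smulCone x C).homology i :=
  (HomologicalComplex.homologyMap (mappingCone.inr (x • 𝟙 C)) i).hom

theorem inH_cls (i : ℤ) (c : LinearMap.ker (C.d i (i + 1)).hom)
    (hc : cmk (x • 𝟙 C) i (i + 1) rfl (0, c.1) ∈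
      LinearMap.ker ((smulCone x C).d i (i + 1)).hom) :
    inH x C i (Elem.cls (next_up i) c) = Elem.cls (next_up i) ⟨_, hc⟩ :=
  Elem.homologyMap_cls _ _ c ⟨_, hc⟩ (inr_apply _ i (i + 1) rfl c.1)

/-- `H^i(cone) → H^{i+1}(C)` -/
noncomputable def outH (i : ℤ) : (smulCone x C).homology i →ₗ[A] C.homology (i + 1) :=
  descH i
    (Elem.cls (next_up (i + 1)) ∘ₗ (cfst (x • 𝟙 C) i (i + 1) rfl).restrict (fun z hz => by
      obtain ⟨⟨a, b⟩, rfl⟩ := cmk_surjective (x • 𝟙 C) i (i + 1) rfl z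
      rw [cfst_cmk]
      exact ((d_eq_zero_iff _ i (i + 1) rfl a b).1 hz).1))
    (fun y => by
      refine (Elem.cls_eq_zero_iff (prev_up _) (next_up _) _).2 ?_
      obtain ⟨⟨a, b⟩, rfl⟩ := cmk_surjective (x • 𝟙 C) (i - 1) i (by omega) y
      refine ⟨(C.d i (i + 1 - 1)).hom 0 - (eqToHom (by rw [add_sub_cancel_right]) :
        C.X i ⟶ C.X (i + 1 - 1)) a, ?_⟩
      show _ = cfst _ i (i + 1) rfl ((mappingCone (x • 𝟙 C)).d (i - 1) i _)
      rw [d_cmk _ (i - 1) i (i + 1) (by omega) rfl, cfst_cmk, map_zero, zero_sub, map_neg]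
      congr 1
      have : ∀ (j : ℤ) (h : i = j),
          (C.d j (i + 1)).hom ((eqToHom (congrArg C.X h) : C.X i ⟶ C.X j) a) = C.d i (i + 1) a := by
        rintro _ rfl; rfl
      exact this _ (by omega))

theorem outH_cls (i : ℤ) (a : C.X (i + 1)) (b : C.X i)
    (h : cmk (x • 𝟙 C) i (i + 1) rfl (a, b) ∈ LinearMap.ker ((smulCone x C).d i (i + 1)).hom) :
    outH x C i (Elem.cls (next_up i) ⟨_, h⟩) =
      Elem.cls (next_up (i + 1)) ⟨a, ((d_eq_zero_iff _ i (i + 1) rfl a b).1 h).1⟩ := by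
  rw [outH, descH_cls]
  show Elem.cls (next_up (i + 1)) _ = _
  congr 1
  exact Subtype.ext (cfst_cmk _ _ _ _ _)

theorem exists_boundary {i : ℤ} (y : (smulCone x C).X (i - 1)) :
    ∃ (a : C.X i) (b : C.X (i - 1)), (smulCone x C).d (i - 1) i y =
      cmk (x • 𝟙 C) i (i + 1) rfl (-C.d i (i + 1) a, x • a + C.d (i - 1) i b) := by
  obtain ⟨⟨a, b⟩, rfl⟩ := cmk_surjective (x • 𝟙 C) (i - 1) i (by omega) y
  exact ⟨a, b, d_cmk _ (i - 1) i (i + 1) (by omega) rfl a b⟩

/-- `x • H^i(C)` is the kernel of `H^i(C) → H^i(cone)`. -/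
theorem inH_eq_zero_iff (i : ℤ) (h : C.homology i) : inH x C i h = 0 ↔ ∃ h', x • h' = h := by
  obtain ⟨⟨c, hc⟩, rfl⟩ := Elem.cls_surjective (next_up i) h
  have hc' : cmk (x • 𝟙 C) i (i + 1) rfl (0, c) ∈ LinearMap.ker ((smulCone x C).d i (i + 1)).hom := by
    exact (d_eq_zero_iff _ i (i + 1) rfl 0 c).2 ⟨map_zero _, by
      rw [map_zero, zero_add]; exact hc⟩
  rw [inH_cls x C i ⟨c, hc⟩ hc', Elem.cls_eq_zero_iff (prev_up i) (next_up i)]
  constructor
  · rintro ⟨y, hy⟩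
    obtain ⟨a, b, hd⟩ := exists_boundary x C y
    have e := hd.symm.trans hy
    have e1 := congrArg (cfst (x • 𝟙 C) i (i + 1) rfl) e
    have e2 := congrArg (csnd (x • 𝟙 C) i) e
    rw [cfst_cmk, cfst_cmk, neg_eq_zero] at e1
    rw [csnd_cmk, csnd_cmk] at e2
    refine ⟨Elem.cls (next_up i) ⟨a, e1⟩, ?_⟩
    rw [← map_smul, ← sub_eq_zero, ← map_sub, Elem.cls_eq_zero_iff (prev_up i) (next_up i)]
    refine ⟨-b, ?_⟩
    show C.d (i - 1) i (-b) = x • a - c
    rw [map_neg, show c = x • a + C.d (i - 1) i b from e2.symm]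
    abel
  · rintro ⟨h', e⟩
    obtain ⟨⟨a, ha⟩, rfl⟩ := Elem.cls_surjective (next_up i) h'
    rw [← map_smul, ← sub_eq_zero, ← map_sub, Elem.cls_eq_zero_iff (prev_up i) (next_up i)] at e
    obtain ⟨b, hb⟩ := e
    refine ⟨cmk (x • 𝟙 C) (i - 1) i (by omega) (a, -b), ?_⟩
    show (mappingCone (x • 𝟙 C)).d (i - 1) i _ = cmk (x • 𝟙 C) i (i + 1) rfl (0, c)
    rw [d_cmk _ (i - 1) i (i + 1) (by omega) rfl, show C.d i (i + 1) a = 0 from ha, neg_zero,
      map_neg]
    congr 2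
    show x • a + -(C.d (i - 1) i b) = c
    rw [show C.d (i - 1) i b = x • a - c from hb]
    abel

theorem outH_inH (i : ℤ) (h : C.homology i) : outH x C i (inH x C i h) = 0 := by
  obtain ⟨⟨c, hc⟩, rfl⟩ := Elem.cls_surjective (next_up i) h
  have hc' : cmk (x • 𝟙 C) i (i + 1) rfl (0, c) ∈ LinearMap.ker ((smulCone x C).d i (i + 1)).hom :=
    (d_eq_zero_iff _ i (i + 1) rfl 0 c).2 ⟨map_zero _, by rw [map_zero, zero_add]; exact hc⟩
  rw [inH_cls x C i ⟨c, hc⟩ hc', outH_cls x C i 0 c hc']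
  exact map_zero _

/-- The image of `H^i(C)` is the kernel of `H^i(cone) → H^{i+1}(C)`. -/
theorem exact_inH_outH (i : ℤ) : Function.Exact (inH x C i) (outH x C i) := by
  intro h
  refine ⟨fun h0 => ?_, fun ⟨h', e⟩ => e ▸ outH_inH x C i h'⟩
  obtain ⟨⟨z, hz⟩, rfl⟩ := Elem.cls_surjective (next_up i) h
  obtain ⟨⟨a, b⟩, rfl⟩ := cmk_surjective (x • 𝟙 C) i (i + 1) rfl z
  rw [outH_cls, Elem.cls_eq_zero_iff (i := i) (by simp) (next_up (i + 1))] at h0
  obtain ⟨w, hw⟩ := h0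
  have hw : C.d i (i + 1) w = a := hw
  obtain ⟨-, h2⟩ := (d_eq_zero_iff _ i (i + 1) rfl a b).1 hz
  have h2 : x • a + C.d i (i + 1) b = 0 := h2
  have hc : b + x • w ∈ LinearMap.ker (C.d i (i + 1)).hom := by
    show C.d i (i + 1) (b + x • w) = 0
    rw [map_add, map_smul, hw]; exact (add_comm _ _).trans h2
  have hc' : cmk (x • 𝟙 C) i (i + 1) rfl (0, b + x • w) ∈
      LinearMap.ker ((smulCone x C).d i (i + 1)).hom :=
    (d_eq_zero_iff _ i (i + 1) rfl 0 _).2 ⟨map_zero _, by rw [map_zero, zero_add]; exact hc⟩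
  refine ⟨Elem.cls (next_up i) ⟨_, hc⟩, ?_⟩
  rw [inH_cls x C i ⟨_, hc⟩ hc', ← sub_eq_zero, ← map_sub,
    Elem.cls_eq_zero_iff (prev_up i) (next_up i)]
  refine ⟨cmk (x • 𝟙 C) (i - 1) i (by omega) (w, 0), ?_⟩
  show (mappingCone (x • 𝟙 C)).d (i - 1) i _ =
    cmk (x • 𝟙 C) i (i + 1) rfl (0, b + x • w) - cmk (x • 𝟙 C) i (i + 1) rfl (a, b)
  rw [d_cmk _ (i - 1) i (i + 1) (by omega) rfl, ← map_sub, hw, Prod.mk_sub_mk, zero_sub, map_zero,
    add_zero]
  congr 2
  show x • w = b + x • w - b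
  abel

/-- The image of `H^i(cone)` in `H^{i+1}(C)` is the `x`-torsion. -/
theorem range_outH (i : ℤ) (h : C.homology (i + 1)) :
    (∃ z, outH x C i z = h) ↔ x • h = 0 := by
  constructor
  · rintro ⟨w, rfl⟩
    obtain ⟨⟨z, hz⟩, rfl⟩ := Elem.cls_surjective (next_up i) w
    obtain ⟨⟨a, b⟩, rfl⟩ := cmk_surjective (x • 𝟙 C) i (i + 1) rfl z
    obtain ⟨-, h2⟩ := (d_eq_zero_iff _ i (i + 1) rfl a b).1 hz
    rw [outH_cls, ← map_smul, Elem.cls_eq_zero_iff (i := i) (by simp) (next_up (i + 1))]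
    refine ⟨-b, ?_⟩
    show C.d i (i + 1) (-b) = x • a
    rw [map_neg]
    exact neg_eq_of_add_eq_zero_left h2
  · intro hx
    obtain ⟨⟨a, ha⟩, rfl⟩ := Elem.cls_surjective (next_up (i + 1)) h
    rw [← map_smul, Elem.cls_eq_zero_iff (i := i) (by simp) (next_up (i + 1))] at hx
    obtain ⟨w, hw⟩ := hx
    have hz : cmk (x • 𝟙 C) i (i + 1) rfl (a, -w) ∈
        LinearMap.ker ((smulCone x C).d i (i + 1)).hom :=
      (d_eq_zero_iff _ i (i + 1) rfl a (-w)).2 ⟨ha, by
        rw [map_neg, show C.d i (i + 1) w = x • a from hw]; exact add_neg_cancel _⟩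
    exact ⟨Elem.cls (next_up i) ⟨_, hz⟩, outH_cls x C i a (-w) hz⟩

theorem isZero_homology_iff (i : ℤ) :
    IsZero ((smulCone x C).homology i) ↔
      Function.Surjective (fun h : C.homology i => x • h) ∧
        ∀ h : C.homology (i + 1), x • h = 0 → h = 0 := by
  rw [ModuleCat.isZero_iff_subsingleton]
  constructor
  · intro hs
    refine ⟨fun h => (inH_eq_zero_iff x C i h).1 (Subsingleton.elim _ _), fun h hx => ?_⟩
    obtain ⟨z, rfl⟩ := (range_outH x C i h).2 hx
    rw [Subsingleton.elim z 0, map_zero]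
  · rintro ⟨h1, h2⟩
    suffices h : ∀ z : (smulCone x C).homology i, z = 0 from ⟨fun a b => by rw [h a, h b]⟩
    intro z
    obtain ⟨w, rfl⟩ := (exact_inH_outH x C i z).1 (h2 _ ((range_outH x C i _).1 ⟨z, rfl⟩))
    exact (inH_eq_zero_iff x C i w).2 (h1 w)

theorem isZero_homology_of_isZero (i : ℤ) (h : IsZero (C.homology i))
    (h' : IsZero (C.homology (i + 1))) : IsZero ((smulCone x C).homology i) := by
  rw [ModuleCat.isZero_iff_subsingleton] at h h'
  rw [isZero_homology_iff]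
  exact ⟨fun b => ⟨b, Subsingleton.elim _ _⟩, fun b _ => Subsingleton.elim _ _⟩

/-- If `x` is injective on `H^{i+1}`, then `H^i(cone) = H^i / x H^i`. -/
noncomputable def homologyEquivQuot (i : ℤ) (hinj : ∀ h : C.homology (i + 1), x • h = 0 → h = 0) :
    (C.homology i ⧸ (Ideal.span {x} • ⊤ : Submodule A (C.homology i))) ≃ₗ[A]
      (smulCone x C).homology i :=
  (Submodule.quotEquivOfEq _ _ (by
      ext h
      rw [LinearMap.mem_ker, inH_eq_zero_iff, Submodule.ideal_span_singleton_smul,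
        Submodule.mem_smul_pointwise_iff_exists]
      simp)).trans
    ((inH x C i).quotKerEquivOfSurjective fun z =>
      (exact_inH_outH x C i z).1 (hinj _ ((range_outH x C i _).1 ⟨z, rfl⟩)))

theorem finite_homology [IsNoetherianRing A] (i : ℤ) [Module.Finite A (C.homology i)]
    [Module.Finite A (C.homology (i + 1))] : Module.Finite A ((smulCone x C).homology i) := by
  have : Module.Finite A (LinearMap.range (outH x C i)) := inferInstance
  have hk : Module.Finite A (LinearMap.ker (outH x C i)) := by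
    rw [LinearMap.exact_iff.1 (exact_inH_outH x C i)]
    infer_instance
  have : Module.Finite A ((smulCone x C).homology i ⧸ LinearMap.ker (outH x C i)) :=
    Module.Finite.equiv (outH x C i).quotKerEquivRange.symm
  exact Module.Finite.of_submodule_quotient (LinearMap.ker (outH x C i))

/-- Functoriality. -/
noncomputable abbrev smulConeMap {C C' : CochainComplex (ModuleCat.{v} A) ℤ} (g : C ⟶ C') :
    smulCone x C ⟶ smulCone x C' :=
  mappingCone.map (x • 𝟙 C) (x • 𝟙 C') g g (by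
    rw [Linear.smul_comp, Linear.comp_smul, Category.id_comp, Category.comp_id])

theorem inH_natural {C C' : CochainComplex (ModuleCat.{v} A) ℤ} (g : C ⟶ C') (i : ℤ)
    (h : C.homology i) :
    HomologicalComplex.homologyMap (smulConeMap x g) i (inH x C i h) =
      inH x C' i (HomologicalComplex.homologyMap g i h) := by
  simp only [inH]
  rw [← ConcreteCategory.comp_apply, ← ConcreteCategory.comp_apply,
    ← HomologicalComplex.homologyMap_comp, ← HomologicalComplex.homologyMap_comp]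
  congr 3
  simp [mappingCone.map]

theorem outH_natural {C C' : CochainComplex (ModuleCat.{v} A) ℤ} (g : C ⟶ C') (i : ℤ)
    (z : (smulCone x C).homology i) :
    outH x C' i (HomologicalComplex.homologyMap (smulConeMap x g) i z) =
      HomologicalComplex.homologyMap g (i + 1) (outH x C i z) := by
  obtain ⟨⟨z, hz⟩, rfl⟩ := Elem.cls_surjective (next_up i) z
  obtain ⟨⟨a, b⟩, rfl⟩ := cmk_surjective (x • 𝟙 C) i (i + 1) rfl z
  obtain ⟨h1, h2⟩ := (d_eq_zero_iff _ i (i + 1) rfl a b).1 hz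
  have ha : C'.d (i + 1) (i + 1 + 1) (g.f (i + 1) a) = 0 := by rw [f_d, h1, map_zero]
  have hz' : cmk (x • 𝟙 C') i (i + 1) rfl (g.f (i + 1) a, g.f i b) ∈
      LinearMap.ker ((smulCone x C').d i (i + 1)).hom :=
    (d_eq_zero_iff _ i (i + 1) rfl _ _).2 ⟨ha, by
      have := congrArg (g.f (i + 1)) h2
      rw [map_add, map_zero, ← f_d] at this
      rw [map_smul_id] at this ⊢
      rwa [map_smul] at this⟩
  rw [Elem.homologyMap_cls _ (next_up i) ⟨_, hz⟩ ⟨_, hz'⟩ (map_cmk _ _ _ _ _ _ _ _ a b),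
    outH_cls, outH_cls]
  exact (Elem.homologyMap_cls _ _ _ ⟨_, ha⟩ rfl).symm

theorem quasiIso_smulConeMap {C C' : CochainComplex (ModuleCat.{v} A) ℤ} (g : C ⟶ C') [QuasiIso g] :
    QuasiIso (smulConeMap x g) := by
  have hg : ∀ j, Function.Bijective (HomologicalComplex.homologyMap g j) := fun j =>
    ConcreteCategory.bijective_of_isIso _
  rw [quasiIso_iff]
  intro i
  rw [quasiIsoAt_iff_isIso_homologyMap, ConcreteCategory.isIso_iff_bijective]
  constructor
  · rw [injective_iff_map_eq_zero]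
    intro z hz
    have h1 := outH_natural x g i z
    rw [hz, map_zero] at h1
    obtain ⟨w, rfl⟩ := (exact_inH_outH x C i z).1 ((hg _).1 (by rw [← h1, map_zero]))
    rw [inH_natural, inH_eq_zero_iff] at hz
    obtain ⟨w', hw'⟩ := hz
    obtain ⟨v, rfl⟩ := (hg i).2 w'
    rw [← map_smul] at hw'
    exact (inH_eq_zero_iff x C i w).2 ⟨v, (hg i).1 hw'⟩
  · intro z'
    obtain ⟨a, ha⟩ := (hg _).2 (outH x C' i z')
    have hx : x • a = 0 := (hg _).1 (by
      rw [map_smul, ha, map_zero]; exact (range_outH x C' i _).1 ⟨z', rfl⟩)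
    obtain ⟨z, rfl⟩ := (range_outH x C i a).2 hx
    obtain ⟨w', hw'⟩ := (exact_inH_outH x C' i
      (z' - HomologicalComplex.homologyMap (smulConeMap x g) i z)).1 (by
        rw [map_sub, outH_natural, ha, sub_self])
    obtain ⟨w, rfl⟩ := (hg i).2 w'
    exact ⟨z + inH x C i w, by rw [map_add, inH_natural, hw']; exact add_sub_cancel _ _⟩

end Groth.Agent.Lib.Koszul.SmulCone
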